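import Mathlib

/-!
# A bit model of the six-dimensional quadratic module over four elements of the triple cover of `M22`

A vector is a number below `2 ^ 13`: bits `0..10` form a subset of `ZMod 11` modulo the whole set, bits `11, 12`
span a complementary plane.
-/

set_option autoImplicit false
set_option maxRecDepth 100000
set_option linter.style.longLine false

namespace CfsgLib.J4Type.Ident

/-- xor of the images of the set bits below `k` -/
def appK (f : ℕ → ℕ) : ℕ → ℕ → ℕ
  | 0, _ => 0
  | k + 1, n => bif n.testBit k then Nat.xor (f k) (appK f k n) else appK f k n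

/-- parity of the set bits below `k` selected by `f` -/
def parK (f : ℕ → Bool) : ℕ → ℕ → Bool
  | 0, _ => false
  | k + 1, n => bif n.testBit k then xor (f k) (parK f k n) else parK f k n

/-- a quadratic map given on the bits by values and polar values -/
def qevK (d : ℕ → Bool) (B : ℕ → ℕ → Bool) : ℕ → ℕ → Bool
  | 0, _ => false
  | k + 1, n => bif n.testBit k then xor (xor (d k) (parK (B k) k n)) (qevK d B k n) else qevK d B k n

/-- the representative of even weight -/
def can (n : ℕ) : ℕ := bif parK (fun _ => true) 11 n then Nat.xor n 2047 else n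

/-- equality in the module -/
def eqv (a b : ℕ) : Bool := Nat.beq (can a) (can b)

/-- a basis vector -/
def bitV (i : ℕ) : ℕ := Nat.shiftLeft 1 i

/-- images of the basis under the generator of order eleven -/
def xF (i : ℕ) : ℕ := bif Nat.blt i 11 then bitV ((i + 1) % 11) else bitV i

/-- images of the basis under the generator of order five -/
def yF (i : ℕ) : ℕ := bif Nat.blt i 11 then bitV ((3 * i) % 11) else bitV i

/-- images of the basis under the scalar of order three -/
def wF (i : ℕ) : ℕ :=
  bif Nat.blt i 11 then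
    Nat.xor (bitV ((i + 1) % 11)) (Nat.xor (bitV ((i + 3) % 11)) (Nat.xor (bitV ((i + 4) % 11))
      (Nat.xor (bitV ((i + 5) % 11)) (bitV ((i + 9) % 11)))))
  else bif Nat.beq i 11 then bitV 12 else Nat.xor (bitV 11) (bitV 12)

/-- the polar values of the standard quadratic form -/
def bStd (i j : ℕ) : Bool := !Nat.beq i j && (Nat.blt i 11 == Nat.blt j 11)

/-- the standard quadratic form -/
def qm (n : ℕ) : Bool := qevK (fun _ => true) bStd 13 n

/-- its polarisation -/
def bm (a b : ℕ) : Bool := xor (qm (Nat.xor a b)) (xor (qm a) (qm b))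

/-- quadratic form on the first eleven bits given by six data bits -/
def qDat (m n : ℕ) : Bool :=
  qevK (fun _ => m.testBit 0) (fun i j => m.testBit (min ((i + 11 - j) % 11) ((j + 11 - i) % 11))) 11 n

/-- multiplication in the group ring of `ZMod 11` -/
def mulV (n d : ℕ) : ℕ := appK (fun i => Nat.xor (Nat.land (Nat.shiftLeft d i) 2047) (Nat.shiftRight d (11 - i))) 11 n

/-- inverses in the group ring modulo the all-one vector -/
def invTab : List ℕ := [
  0, 1, 1023, 682, 512, 819, 341, 585, 256, 455, 614, 564, 853, 935, 731, 273,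
  128, 602, 796, 808, 307, 195, 282, 968, 597, 491, 556, 189, 658, 492, 887, 66,
  64, 62, 301, 424, 398, 995, 404, 164, 870, 156, 926, 524, 141, 107, 484, 181,
  725, 501, 778, 867, 278, 280, 929, 782, 329, 1005, 246, 824, 580, 937, 33, 65,
  32, 63, 31, 886, 873, 623, 212, 359, 199, 673, 526, 347, 202, 957, 82, 519,
  435, 834, 78, 518, 463, 289, 262, 149, 953, 943, 970, 620, 242, 319, 933, 605,
  661, 612, 773, 703, 389, 152, 590, 472, 139, 713, 140, 45, 559, 882, 391, 1012,
  859, 710, 521, 249, 123, 554, 412, 652, 290, 184, 555, 116, 1007, 849, 991, 274,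
  16, 603, 992, 172, 1008, 985, 443, 922, 587, 254, 712, 104, 106, 44, 844, 471,
  924, 240, 687, 791, 263, 87, 850, 366, 101, 388, 545, 364, 41, 871, 764, 486,
  806, 979, 417, 476, 39, 405, 259, 723, 792, 541, 879, 371, 131, 993, 949, 733,
  547, 1017, 552, 426, 485, 47, 310, 302, 121, 291, 864, 786, 557, 27, 721, 632,
  693, 761, 306, 21, 637, 903, 672, 72, 829, 221, 76, 956, 295, 629, 236, 880,
  954, 509, 667, 568, 70, 358, 1001, 363, 744, 377, 441, 415, 828, 201, 506, 863,
  594, 459, 355, 514, 763, 857, 899, 576, 962, 369, 277, 357, 206, 881, 326, 812,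
  145, 925, 92, 318, 746, 855, 58, 825, 520, 115, 599, 735, 528, 444, 137, 586,
  8, 454, 722, 166, 496, 799, 86, 148, 504, 757, 531, 644, 802, 437, 461, 575,
  730, 15, 127, 990, 356, 234, 52, 281, 53, 279, 22, 969, 422, 905, 788, 920,
  462, 85, 120, 185, 680, 510, 628, 204, 892, 448, 980, 579, 425, 34, 183, 311,
  973, 945, 194, 20, 751, 353, 182, 303, 1003, 998, 588, 634, 382, 630, 243, 93,
  403, 912, 534, 770, 815, 678, 238, 813, 1004, 56, 821, 668, 894, 909, 662, 381,
  396, 901, 753, 650, 584, 6, 838, 467, 958, 840, 527, 75, 549, 961, 657, 503,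
  750, 309, 515, 226, 276, 235, 213, 71, 781, 516, 1000, 215, 155, 544, 151, 851,
  963, 233, 878, 171, 432, 488, 393, 704, 745, 217, 1010, 983, 663, 335, 316, 631,
  677, 646, 643, 457, 153, 100, 1013, 110, 705, 374, 572, 675, 336, 900, 36, 994,
  609, 536, 913, 320, 38, 165, 478, 689, 876, 1021, 709, 767, 118, 653, 440, 219,
  477, 162, 769, 684, 690, 860, 284, 904, 35, 300, 179, 553, 523, 625, 842, 1014,
  372, 489, 835, 80, 803, 269, 816, 740, 414, 218, 923, 134, 253, 529, 592, 664,
  297, 893, 794, 775, 846, 619, 257, 9, 642, 387, 595, 225, 574, 270, 288, 84,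
  481, 950, 839, 343, 885, 563, 845, 143, 103, 591, 583, 930, 163, 416, 406, 688,
  951, 464, 561, 996, 46, 180, 159, 765, 373, 433, 596, 25, 29, 659, 611, 550,
  260, 798, 966, 626, 724, 49, 656, 351, 264, 756, 222, 862, 955, 209, 293, 681,
  4, 818, 227, 354, 361, 780, 83, 79, 248, 114, 624, 428, 43, 927, 74, 346,
  252, 445, 645, 266, 758, 891, 322, 771, 401, 608, 805, 566, 793, 169, 736, 698,
  365, 154, 1016, 176, 960, 348, 495, 610, 178, 427, 117, 122, 26, 188, 883, 108,
  997, 482, 884, 469, 11, 615, 539, 804, 211, 666, 571, 570, 394, 674, 460, 271,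
  231, 898, 981, 299, 60, 936, 931, 474, 340, 7, 255, 136, 314, 635, 102, 473,
  446, 665, 224, 458, 490, 24, 734, 250, 811, 940, 17, 129, 932, 95, 868, 707,
  537, 400, 551, 494, 97, 660, 10, 565, 648, 654, 847, 453, 91, 971, 872, 69,
  522, 429, 499, 967, 294, 205, 317, 383, 191, 720, 315, 589, 902, 196, 977, 836,
  822, 974, 456, 386, 267, 530, 385, 676, 616, 655, 339, 752, 119, 413, 617, 649,
  502, 350, 28, 493, 613, 96, 334, 380, 447, 593, 569, 210, 331, 820, 833, 784,
  198, 73, 573, 395, 647, 384, 325, 814, 292, 511, 3, 1022, 419, 768, 790, 146,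
  479, 407, 420, 861, 760, 192, 986, 700, 749, 826, 543, 737, 695, 987, 772, 99,
  375, 392, 869, 607, 766, 410, 113, 858, 138, 105, 906, 739, 917, 727, 988, 800,
  633, 190, 258, 167, 500, 48, 916, 717, 946, 777, 272, 14, 948, 175, 598, 251,
  542, 699, 907, 715, 439, 817, 938, 964, 216, 376, 244, 854, 827, 696, 352, 308,
  651, 338, 915, 831, 505, 265, 532, 890, 692, 193, 856, 228, 158, 487, 708, 411,
  685, 418, 323, 535, 702, 98, 795, 451, 947, 729, 50, 866, 517, 360, 55, 928,
  671, 832, 187, 865, 286, 921, 686, 147, 168, 540, 450, 774, 18, 809, 497, 261,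
  719, 989, 268, 436, 567, 538, 160, 978, 19, 797, 941, 600, 239, 327, 679, 324,
  438, 741, 513, 5, 669, 330, 640, 975, 59, 247, 697, 748, 220, 200, 914, 755,
  785, 670, 81, 434, 639, 976, 342, 466, 345, 959, 430, 1015, 142, 470, 452, 618,
  1006, 125, 150, 367, 934, 12, 747, 245, 762, 229, 711, 112, 421, 691, 507, 223,
  186, 787, 779, 51, 606, 706, 40, 157, 622, 68, 889, 896, 408, 1020, 370, 170,
  207, 237, 109, 558, 562, 468, 67, 30, 897, 874, 759, 533, 296, 449, 332, 908,
  875, 888, 577, 230, 397, 337, 636, 197, 423, 285, 714, 738, 895, 333, 1019, 918,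
  321, 402, 830, 754, 726, 716, 911, 1018, 287, 789, 135, 442, 144, 241, 42, 525,
  783, 54, 475, 582, 604, 94, 852, 13, 581, 61, 742, 965, 601, 810, 952, 89,
  972, 305, 728, 776, 732, 174, 465, 480, 942, 88, 208, 508, 203, 77, 344, 841,
  548, 349, 232, 368, 743, 939, 498, 627, 23, 283, 90, 621, 944, 304, 641, 823,
  837, 638, 807, 161, 298, 578, 1011, 379, 1009, 133, 694, 701, 718, 801, 275, 126,
  130, 173, 399, 37, 483, 560, 313, 1002, 362, 214, 999, 312, 328, 57, 848, 124,
  132, 984, 378, 982, 111, 390, 431, 843, 546, 177, 919, 910, 877, 409, 683, 2]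

/-- normalising scalars -/
def normTab : List ℕ := [
  0, 0, 0, 91, 0, 167, 119, 0, 0, 173, 77, 0, 7, 0, 0, 45,
  0, 55, 39, 0, 93, 0, 0, 5, 79, 0, 0, 27, 0, 17, 19, 0,
  0, 31, 107, 0, 73, 0, 0, 3, 87, 0, 0, 33, 0, 23, 11, 0,
  21, 0, 0, 51, 0, 75, 15, 0, 0, 9, 35, 0, 37, 0, 0, 1]

/-- singletons in the orbit basis -/
def coefTab : List ℕ := [
  1023, 1, 468, 2, 16, 8, 905, 818, 234, 4, 613]

/-- images of the basis under the third generator -/
def tImg : List ℕ := [
  6144, 3240, 5172, 2342, 2140, 3856, 4238, 5024, 5704, 2754, 4434, 1477, 571]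

/-- images of the basis under the third generator -/
def tF (i : ℕ) : ℕ := tImg.getD i 0

/-- the list is the table of inverses -/
theorem inv_table : ((List.range 1024).zip invTab).all
    (fun p => Nat.beq p.1 0 || (Nat.blt p.2 1024 && eqv (mulV p.2 p.1) 1)) = true := by
  decide +kernel

theorem inv_table_len : invTab.length = 1024 := by decide +kernel

/-- nonzero admissible data can be normalised -/
theorem norm_table : (List.range 64).all (fun m => Nat.beq m 0 || qDat m 2047 ||
    (let c := normTab.getD m 0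
     Nat.blt c 1024 && !Nat.beq c 0 && qDat m c && (List.range 5).all (fun k =>
      let d := mulV (bitV (k + 1)) c
      xor (qDat m (Nat.xor c d)) (xor (qDat m c) (qDat m d))))) = true := by
  decide +kernel

/-- images of the basis under a candidate of order five -/
def yC (c i : ℕ) : ℕ := bif Nat.blt i 11 then mulV (bitV ((3 * i) % 11)) c else bitV i

/-- candidates of order five are shifts -/
theorem y_table : (List.range 1024).all (fun c => !qm c || !(List.range 5).all (fun k =>
      bm c (mulV (bitV ((3 * (k + 1)) % 11)) c)) ||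
    !eqv (appK (yC c) 13 (appK (yC c) 13 (appK (yC c) 13 (appK (yC c) 13 c)))) 1 ||
    (List.range 11).any (fun j => eqv c (bitV j))) = true := by
  decide +kernel

/-- an image of the orbit basis -/
def orbF (w j : ℕ) : ℕ :=
  let z := Nat.rec w (fun _ v => appK yF 13 v) (2 * j % 5)
  bif Nat.blt j 5 then z else appK wF 13 z

/-- the orbit basis -/
def orbE (j : ℕ) : ℕ :=
  let z := Nat.rec 2 (fun _ v => appK yF 13 v) (j % 5)
  bif Nat.blt j 5 then z else appK wF 13 z

theorem coef_table : (List.range 11).all (fun i => eqv (appK orbE 10 (coefTab.getD i 0)) (bitV i)) = true := by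
  decide +kernel

/-- images of the basis under a candidate for the third generator -/
def tC (w u i : ℕ) : ℕ :=
  bif Nat.blt i 11 then appK (orbF w) 10 (coefTab.getD i 0) else bif Nat.beq i 11 then u else appK wF 13 u

/-- first filter -/
def goodW (w : ℕ) : Bool :=
  qm w && (List.range 9).all (fun j => bm w (orbF w (j + 1)) == bm 2 (orbE (j + 1)))

/-- the change of the plane by a scalar -/
def dF (k i : ℕ) : ℕ := bif Nat.blt i 11 then bitV i else Nat.rec (bitV i) (fun _ v => appK wF 13 v) k

/-- the word of order eleven -/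
def gC (w u v : ℕ) : ℕ := appK xF 13 (appK xF 13 (appK (tC w u) 13 v))

/-- conditions on a candidate -/
def goodT (w u : ℕ) : Bool :=
  qm u && !bm u w &&
  (eqv (appK (tC w u) 13 (appK (tC w u) 13 (appK (tC w u) 13 (appK (tC w u) 13 2)))) 2 &&
    eqv (appK (tC w u) 13 (appK (tC w u) 13 (appK (tC w u) 13 (appK (tC w u) 13 2048)))) 2048) &&
  (List.range 3).any (fun k =>
    eqv (Nat.rec 2048 (fun _ v => gC w u v) 11) (Nat.rec 2048 (fun _ v => appK wF 13 v) k) &&
    eqv (Nat.rec 2 (fun _ v => gC w u v) 11) (Nat.rec 2 (fun _ v => appK wF 13 v) k))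

/-- the sixteen vectors fixed by the generator of order five -/
def fixY : List ℕ := [0, 571, 1477, 2046, 2048, 2619, 3525, 4094, 4096, 4667, 5573, 6142, 6144, 6715, 7621, 8190]

theorem fixY_table : (List.range 8192).all (fun u => !eqv (appK yF 13 u) u ||
    fixY.any (fun v => eqv u v)) = true := by
  decide +kernel

/-- the vectors of even weight passing the first filter -/
theorem t_table : (List.range 8192).all (fun w => !Nat.beq (can w) w || !goodW w || fixY.all (fun u => !goodT w u ||
    (List.range 3).any (fun k => (List.range 13).all (fun i =>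
      eqv (appK (tC w u) 13 (dF k i)) (appK (dF k) 13 (tF i)))))) = true := by
  decide +kernel

end CfsgLib.J4Type.Ident
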