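import Cfsg.Agent.Lib.J4Type.Frame
import Cfsg.Agent.Lib.J4Type.Ident.Model

/-!
# From the bit model of the module to the coordinates of `J4Type.Model`
-/

set_option autoImplicit false
set_option maxRecDepth 100000
set_option linter.style.longLine false

namespace CfsgLib.J4Type.Ident

/-- images of the basis of the bit model -/
def phiT : List ℕ := [1078, 2626, 3596, 1141, 3142, 3845, 3699, 1585, 1756, 1391, 3263, 1489, 2658]

/-- representatives of the coordinate vectors in the bit model -/
def psiT : List ℕ := [4863, 7002, 2534, 4640, 2953, 4098, 2476, 4375, 251, 194, 2358, 4662]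

/-- the change of coordinates -/
def toCo (n : ℕ) : ℕ := appK (fun i => phiT.getD i 0) 13 n

/-- the generator of order eleven in coordinates -/
def mX : List ℕ := [2875, 3357, 1113, 2222, 3289, 1134, 34, 51, 2451, 3809, 2993, 3538]

/-- the generator of order five in coordinates -/
def mY : List ℕ := [690, 979, 1811, 2337, 2366, 3607, 56, 28, 2470, 3835, 2015, 2405]

/-- the third generator in coordinates -/
def mT : List ℕ := [336, 672, 1028, 2056, 1025, 2050, 1029, 2058, 1105, 2210, 1300, 2600]

theorem psi_table : (List.range 12).all (fun i => Nat.beq (toCo (psiT.getD i 0)) (bitV i)) = true := by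
  decide +kernel

theorem phi_table : (List.range 13).all (fun i => eqv (appK (fun j => psiT.getD j 0) 12 (phiT.getD i 0)) (bitV i)) = true := by
  decide +kernel

theorem toCo_whole : toCo 2047 = 0 := by decide +kernel

theorem q_table : (List.range 8192).all (fun n => qF (toCo n) == qm n) = true := by decide +kernel

theorem intertwine_table : (List.range 13).all (fun i =>
    Nat.beq (mv mX (toCo (bitV i))) (toCo (xF i)) && Nat.beq (mv mY (toCo (bitV i))) (toCo (yF i)) &&
    Nat.beq (mv mT (toCo (bitV i))) (toCo (tF i)) && Nat.beq (mv pOm (toCo (bitV i))) (toCo (wF i))) = true := by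
  decide +kernel

theorem mv_xor : ∀ (g : List ℕ) (a b : ℕ), mv g (a ^^^ b) = mv g a ^^^ mv g b
  | [], _, _ => by simp [mv]
  | x :: g, a, b => by
    have h1 : (a ^^^ b) / 2 = a / 2 ^^^ b / 2 := Nat.xor_div_two
    have h2 : (a ^^^ b) % 2 = (a % 2 + b % 2) % 2 := by
      rw [Nat.xor_mod_two_eq]; omega
    simp only [mv, h1, h2, mv_xor g]
    rcases Nat.mod_two_eq_zero_or_one a with ha | ha <;> rcases Nat.mod_two_eq_zero_or_one b with hb | hb <;>
      simp [ha, hb, show Nat.beq 0 1 = false from rfl, show Nat.beq 1 1 = true from rfl] <;> ac_nf <;> simp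

theorem mv_zero : ∀ g : List ℕ, mv g 0 = 0
  | [] => rfl
  | x :: g => by simp [mv, mv_zero g, show Nat.beq 0 1 = false from rfl]

theorem mv_mm (g : List ℕ) : ∀ (m : List ℕ) (v : ℕ), mv (mm g m) v = mv g (mv m v)
  | [], v => by simp [mm, mv, mv_zero]
  | x :: m, v => by
    show mv (mv g x :: mm g m) v = _
    simp only [mv]
    cases Nat.beq (v % 2) 1 <;> simp [mv_mm g m, mv_xor]

theorem mm_assoc (g m b : List ℕ) : mm (mm g m) b = mm g (mm m b) := by
  simp only [mm, List.map_map]
  exact List.map_congr_left fun v _ => mv_mm g m v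

theorem idM_table : (List.range 4096).all (fun v => Nat.beq (mv idM v) v) = true := by decide +kernel

theorem mv_lt : ∀ (g : List ℕ), (∀ x ∈ g, x < 4096) → ∀ v, mv g v < 4096
  | [], _, _ => by simp [mv]
  | x :: g, h, v => by
    have h1 := mv_lt g (fun y hy => h y (List.mem_cons_of_mem _ hy)) (v / 2)
    simp only [mv]
    cases Nat.beq (v % 2) 1
    · exact h1
    · exact Nat.xor_lt_two_pow (n := 12) (h x List.mem_cons_self) h1

theorem gens_lt : ∀ g ∈ gensL, ∀ x ∈ g, x < 4096 := by decide +kernel

theorem idM_lt : ∀ x ∈ idM, x < 4096 := by decide +kernel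

theorem _root_.CfsgLib.J4Type.InL.entries {m : List ℕ} (h : InL m) : ∀ x ∈ m, x < 4096 := by
  induction h with
  | one => exact idM_lt
  | mul g hg _ _ =>
    intro x hx
    obtain ⟨y, -, rfl⟩ := List.mem_map.1 hx
    exact mv_lt g (gens_lt g hg) y

theorem _root_.CfsgLib.J4Type.InX.toL {m : List ℕ} (h : InX m) : InL m := by
  induction h with
  | one => exact InL.one
  | mul g hg _ ih => exact InL.mul g (by simp only [gensL, List.mem_cons, List.not_mem_nil, or_false] at hg ⊢; tauto) ih

theorem idM_mm {b : List ℕ} (hb : ∀ x ∈ b, x < 4096) : mm idM b = b := by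
  conv_rhs => rw [← List.map_id b]
  exact List.map_congr_left fun v hv =>
    Nat.eq_of_beq_eq_true (List.all_eq_true.1 idM_table v (List.mem_range.2 (hb v hv)))

theorem _root_.CfsgLib.J4Type.InX.mm_mem {a b : List ℕ} (ha : InX a) (hb : InX b) : InX (mm a b) := by
  induction ha with
  | one => rwa [idM_mm hb.toL.entries]
  | mul g hg _ ih => rw [mm_assoc]; exact InX.mul g hg ih

theorem _root_.CfsgLib.J4Type.InL.mm_mem {a b : List ℕ} (ha : InL a) (hb : InL b) : InL (mm a b) := by
  induction ha with
  | one => rwa [idM_mm hb.entries]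
  | mul g hg _ ih => rw [mm_assoc]; exact InL.mul g hg ih

/-- the product of a word -/
def wordM (gs : List (List ℕ)) : List ℕ := gs.foldr mm idM

theorem inX_word : ∀ gs : List (List ℕ), (∀ g ∈ gs, g ∈ [kX, kA, kB, qU, qL]) → InX (wordM gs)
  | [], _ => InX.one
  | g :: gs, h => InX.mul g (h g List.mem_cons_self) (inX_word gs fun x hx => h x (List.mem_cons_of_mem _ hx))

theorem inX_mX : InX mX := (by decide +kernel : wordM [qU, kB, kX, qL, kA, qU, kX, kB, kB, qL, kA] = mX) ▸ inX_word _ (by decide +kernel)

theorem inX_mY : InX mY := (by decide +kernel : wordM [kX, qU, kX, kB, qL, qU, kX, kX, kB, kA] = mY) ▸ inX_word _ (by decide +kernel)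

theorem inX_mT : InX mT := (by decide +kernel : wordM [qU, kA, kB, kA, kB, qU, qL, kA, kB] = mT) ▸ inX_word _ (by decide +kernel)

theorem inX_pOm : InX pOm := (by decide +kernel : wordM [kA, kB, kA, kA, kX, kB, kB, kX, kX] = pOm) ▸ inX_word _ (by decide +kernel)

theorem word_kX : wordM [mY, mX, mX, mT, mY, mT, mX, mY, mT, mX, mT, mT, mY, mT] = kX := by decide +kernel

theorem word_kA : wordM [mX, mT, mY, mX, mX, mT, mY, mY, mX, mT, mY, mX] = kA := by decide +kernel

theorem word_kB : wordM [mY, mT, mX, mY, mT, mX, mT, mX, mY, mX, mT, mT, mT, mX, mY, mX] = kB := by decide +kernel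

theorem word_qU : wordM [pOm, pOm, mX, mX, mX, mX, mT, mX, mT, mT, mX, mT, mX, mT, mX, mX] = qU := by decide +kernel

theorem word_qL : wordM [mY, mX, mT, mX, mX, mT, mY, mX, mY, mT, mX, mT, mX, mY, mT] = qL := by decide +kernel

theorem sig_mX : mm sig (mm mX sig) = wordM [qL, kB, qU, kB, kA, kB, qL, kA, kA] := by decide +kernel

theorem sig_mY : mm sig (mm mY sig) = wordM [kA, kX, qU, qL, qU, kA, kA, qL, qU, kB] := by decide +kernel

theorem sig_mT : mm sig (mm mT sig) = wordM [qU, kA, kB, kA, kB, qU, qL, kA, kB] := by decide +kernel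

theorem sig_sig : mm sig sig = idM := by decide +kernel

theorem sig_pOm : mm sig (mm pOm sig) = mm pOm pOm := by decide +kernel

theorem sig_qF : (List.range 4096).all (fun v => qF (mv sig v) == qF v) = true := by decide +kernel

end CfsgLib.J4Type.Ident
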