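import Cfsg.Agent.Lib.J4Type.Ident.Triple
import Cfsg.Agent.Lib.J4Type.Ident.Change

/-!
# Coordinates below `4096` and matrices of additive maps
-/

set_option autoImplicit false
set_option linter.unusedSectionVars false
set_option maxRecDepth 100000

namespace CfsgLib.J4Type.Ident

theorem toCo_table : (List.range 8192).all (fun n =>
    (!Nat.beq (toCo n) 0 || eqv n 0) && Nat.blt (toCo n) 4096) = true := by
  decide +kernel

theorem psi_all : (List.range 4096).all (fun v =>
    let n := appK (fun j => psiT.getD j 0) 12 v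
    Nat.blt n 8192 && Nat.beq (toCo n) v && Nat.beq (appK bitV 12 v) v) = true := by
  decide +kernel

theorem toCo_xor (a b : ℕ) : toCo (a ^^^ b) = toCo a ^^^ toCo b := appK_xor _ 13 a b

theorem map_appK (F : ℕ → ℕ) (h0 : F 0 = 0) (hF : ∀ a b, F (a ^^^ b) = F a ^^^ F b) (g : ℕ → ℕ) :
    ∀ k n, F (appK g k n) = appK (fun i => F (g i)) k n
  | 0, _ => h0
  | k + 1, n => by
    simp only [appK]
    cases n.testBit k
    · exact map_appK F h0 hF g k n
    · show F (g k ^^^ appK g k n) = F (g k) ^^^ _
      rw [hF, map_appK F h0 hF g k n]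

theorem appK_congr {f g : ℕ → ℕ} : ∀ (k n : ℕ), (∀ i, i < k → f i = g i) → appK f k n = appK g k n
  | 0, _, _ => rfl
  | k + 1, n, h => by
    simp only [appK]
    rw [h k (Nat.lt_succ_self k), appK_congr k n fun i hi => h i (Nat.lt_succ_of_lt hi)]

theorem mv_pow : ∀ (l : List ℕ) (i : ℕ), mv l (2 ^ i) = l.getD i 0
  | [], i => by simp [mv]
  | x :: l, 0 => by simp [mv, mv_zero, show Nat.beq 1 1 = true from rfl]
  | x :: l, i + 1 => by
    simp only [mv, show 2 ^ (i + 1) % 2 = 0 by rw [pow_succ, Nat.mul_mod_left],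
      show 2 ^ (i + 1) / 2 = 2 ^ i by rw [pow_succ, Nat.mul_div_cancel _ (by norm_num)],
      show Nat.beq 0 1 = false from rfl, cond_false, mv_pow l i, List.getD_cons_succ]

theorem bitV_eq (i : ℕ) : bitV i = 2 ^ i := by simp [bitV, Nat.shiftLeft_eq]

theorem inL_length {m : List ℕ} (h : InL m) : m.length = 12 := by
  induction h with
  | one => rfl
  | mul g _ _ ih => simpa [mm] using ih

variable {V : Type*} [AddCommGroup V] {M : Space V} {a : V →+ V} {x : ℕ → V}

/-- The coordinate of a vector. -/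
structure Conv (M : Space V) (a : V →+ V) (x : ℕ → V) (C : V → ℕ) : Prop where
  part : Part M a x
  val : ∀ n, n < 8192 → C (comb x 13 n) = toCo n

theorem exists_conv (hP : Part M a x) : ∃ C : V → ℕ, Conv M a x C := by
  refine ⟨fun v => toCo (hP.surj v).choose, hP, fun n hn => ?_⟩
  obtain ⟨hm, he⟩ := (hP.surj (comb x 13 n)).choose_spec
  set m := (hP.surj (comb x 13 n)).choose
  have h0 : comb x 13 (m ^^^ n) = 0 := by rw [hP.xor, he, M.two]
  show toCo m = toCo n
  rcases (hP.zero _ (Nat.xor_lt_two_pow (n := 13) hm hn)).1 h0 with e | e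
  · have : m = n := by rw [← Nat.xor_zero m, ← Nat.xor_self n, ← Nat.xor_assoc, e, Nat.zero_xor]
    rw [this]
  · have h1 : toCo m ^^^ toCo n = 0 := by rw [← toCo_xor, e, toCo_whole]
    rw [← Nat.xor_zero (toCo m), ← Nat.xor_self (toCo n), ← Nat.xor_assoc, h1, Nat.zero_xor]

namespace Conv

variable {C : V → ℕ} (K : Conv M a x C)
include K

theorem lt (v : V) : C v < 4096 := by
  obtain ⟨n, hn, rfl⟩ := K.part.surj v
  rw [K.val n hn]
  have := List.all_eq_true.1 toCo_table n (List.mem_range.2 hn)
  simp only [Bool.and_eq_true, Nat.blt_eq] at this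
  exact this.2

theorem add (u v : V) : C (u + v) = C u ^^^ C v := by
  obtain ⟨n, hn, rfl⟩ := K.part.surj u
  obtain ⟨m, hm, rfl⟩ := K.part.surj v
  rw [← K.part.xor, K.val _ (Nat.xor_lt_two_pow (n := 13) hn hm), K.val n hn, K.val m hm, toCo_xor]

theorem zero : C (0 : V) = 0 := by
  rw [← comb_zero x 13, K.val 0 (by norm_num)]
  rfl

theorem eq_zero {v : V} (h : C v = 0) : v = 0 := by
  obtain ⟨n, hn, rfl⟩ := K.part.surj v
  rw [K.val n hn] at h
  have := List.all_eq_true.1 toCo_table n (List.mem_range.2 hn)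
  simp only [Bool.and_eq_true, h, Bool.or_eq_true, Bool.not_eq_true'] at this
  rcases this.1 with e | e
  · exact absurd e (by decide)
  · rw [K.part.eq_of_eqv e, comb_zero]

theorem inj {u v : V} (h : C u = C v) : u = v :=
  (add_eq_zero_iff_eq M.two).1 (K.eq_zero (by rw [K.add, h, Nat.xor_self]))

theorem surj {v : ℕ} (hv : v < 4096) : ∃ u, C u = v := by
  have := List.all_eq_true.1 psi_all v (List.mem_range.2 hv)
  simp only [Bool.and_eq_true, Nat.blt_eq] at this
  exact ⟨comb x 13 (appK (fun j => psiT.getD j 0) 12 v), by rw [K.val _ this.1.1, Nat.eq_of_beq_eq_true this.1.2]⟩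

theorem q (v : V) : qF (C v) = M.q v := by
  obtain ⟨n, hn, rfl⟩ := K.part.surj v
  rw [K.val n hn, K.part.q]
  exact beq_iff_eq.1 (List.all_eq_true.1 q_table n (List.mem_range.2 hn))

/-- A map given on the basis acts by a matrix agreeing on it. -/
theorem intertwine (f : V →+ V) (g : ℕ → ℕ) (m : List ℕ) (hg : ∀ i, i < 13 → g i < 8192)
    (hf : ∀ i, i < 13 → f (x i) = comb x 13 (g i))
    (ht : ∀ i, i < 13 → mv m (toCo (bitV i)) = toCo (g i)) (v : V) : C (f v) = mv m (C v) := by
  obtain ⟨n, hn, rfl⟩ := K.part.surj v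
  rw [act M.two x f g hf, K.val _ (appK_lt (N := 13) 13 n hg), K.val n hn,
    map_appK toCo rfl toCo_xor g 13 n, toCo, map_appK (mv m) (mv_zero m) (mv_xor m)]
  refine appK_congr 13 n fun i hi => ?_
  rw [← ht i hi]
  congr 1
  interval_cases i <;> rfl

end Conv

/-- The vector with a given coordinate. -/
noncomputable def vecOf (C : V → ℕ) (v : ℕ) : V := Function.invFun C v

/-- The matrix of a map. -/
noncomputable def matOf (C : V → ℕ) (L : V → V) : List ℕ :=
  (List.range 12).map fun i => C (L (vecOf C (2 ^ i)))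

namespace Conv

variable {C : V → ℕ} (K : Conv M a x C)
include K

theorem vecOf_spec {v : ℕ} (hv : v < 4096) : C (vecOf C v) = v := Function.invFun_eq (K.surj hv)

theorem vecOf_C (v : V) : vecOf C (C v) = v := K.inj (K.vecOf_spec (K.lt v))

theorem vecOf_xor {u v : ℕ} (hu : u < 4096) (hv : v < 4096) : vecOf C (u ^^^ v) = vecOf C u + vecOf C v :=
  K.inj (by rw [K.add, K.vecOf_spec hu, K.vecOf_spec hv, K.vecOf_spec (Nat.xor_lt_two_pow (n := 12) hu hv)])

theorem mat_spec (L : V →+ V) (v : V) : mv (matOf C L) (C v) = C (L v) := by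
  have hv := K.lt v
  have hb := List.all_eq_true.1 psi_all (C v) (List.mem_range.2 hv)
  simp only [Bool.and_eq_true] at hb
  have hbit : ∀ i, i < 12 → bitV i < 4096 := fun i hi => by interval_cases i <;> decide
  have key : ∀ k, k ≤ 12 → mv (matOf C L) (appK bitV k (C v)) = C (L (vecOf C (appK bitV k (C v)))) := by
    intro k hk
    induction k with
    | zero =>
      show mv _ 0 = C (L (vecOf C 0))
      rw [mv_zero, show vecOf C 0 = 0 from by rw [← K.zero, K.vecOf_C], map_zero, K.zero]
    | succ k ih =>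
      simp only [appK]
      cases (C v).testBit k
      · exact ih (by omega)
      · show mv _ (bitV k ^^^ _) = C (L (vecOf C (bitV k ^^^ _)))
        rw [mv_xor, ih (by omega), K.vecOf_xor (hbit k (by omega))
          (appK_lt (N := 12) k _ fun i hi => hbit i (by omega)), map_add, K.add]
        congr 1
        rw [bitV_eq, mv_pow, matOf, List.getD_eq_getElem _ _ (by simp; omega)]
        simp
  have := key 12 le_rfl
  rw [Nat.eq_of_beq_eq_true hb.2, K.vecOf_C] at this
  exact this

theorem mat_unique (L : V →+ V) {m : List ℕ} (hm : m.length = 12) (h : ∀ v, C (L v) = mv m (C v)) :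
    matOf C L = m := by
  refine List.ext_getElem (by simp [matOf, hm]) fun i h1 h2 => ?_
  simp only [matOf, List.getElem_map, List.getElem_range]
  rw [h, K.vecOf_spec (Nat.pow_lt_pow_right (by norm_num) (by omega : i < 12)), mv_pow,
    List.getD_eq_getElem _ _ h2]

end Conv

end CfsgLib.J4Type.Ident
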