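import Cfsg.Agent.Lib.J4Type.Ident.Key
import Cfsg.Agent.Lib.J4Type.Ident.Conv

/-!
# The frame of a group of Janko-four type

The coordinates on the radical modulo its centre and the matrices of the centraliser.
-/

set_option autoImplicit false
set_option linter.unusedSectionVars false
set_option maxRecDepth 100000

universe u

namespace CfsgLib.J4Type.Ident

open Cfsg Subgroup CfsgLib.Golay

theorem idM_vec {v : ℕ} (hv : v < 4096) : mv idM v = v :=
  Nat.eq_of_beq_eq_true (List.all_eq_true.1 idM_table v (List.mem_range.2 hv))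

theorem sig_sig_vec {v : ℕ} (hv : v < 4096) : mv sig (mv sig v) = v := by
  rw [← mv_mm, sig_sig, idM_vec hv]

theorem sig_mem : sig ∈ gensL := by simp [gensL]

theorem sig_lt (v : ℕ) : mv sig v < 4096 := mv_lt sig (gens_lt sig sig_mem) v

theorem inL_idM_mm {m : List ℕ} (hm : InL m) : mm idM m = m := idM_mm hm.entries

theorem mm_idM {m : List ℕ} (hm : InL m) : mm m idM = m := by
  refine List.ext_getElem (by rw [mm, List.length_map, inL_length hm]; rfl) fun i h1 h2 => ?_
  have hi : i < 12 := by rw [inL_length hm] at h2; exact h2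
  simp only [mm, List.getElem_map]
  rw [show idM[i]'(by simp [idM]; omega) = 2 ^ i by simp [idM], mv_pow, List.getD_eq_getElem _ _ h2]

theorem sig_conj_mm {a b : List ℕ} (hb : InL b) :
    mm (mm sig (mm a sig)) (mm sig (mm b sig)) = mm sig (mm (mm a b) sig) := by
  have hsig : InL sig := by
    have := InL.mul sig sig_mem InL.one
    rwa [show mm sig idM = sig by decide +kernel] at this
  have h1 : mm sig (mm sig (mm b sig)) = mm b sig := by
    rw [← mm_assoc, sig_sig, inL_idM_mm (hb.mm_mem hsig)]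
  rw [mm_assoc sig (mm a sig), mm_assoc a sig, h1, ← mm_assoc a b sig]

theorem word_cons (g : List ℕ) (gs : List (List ℕ)) : wordM (g :: gs) = mm g (wordM gs) := rfl

/-- A property closed under products and true on the four generators holds on the linear part. -/
theorem inX_induction (R : List ℕ → Prop) (h1 : R idM)
    (hmul : ∀ a b, InX a → InX b → R a → R b → R (mm a b)) (hX : R mX) (hY : R mY) (hT : R mT) (hW : R pOm)
    {m : List ℕ} (hm : InX m) : R m := by
  have hword : ∀ gs : List (List ℕ), (∀ g ∈ gs, g ∈ [mX, mY, mT, pOm]) → InX (wordM gs) ∧ R (wordM gs) := by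
    intro gs
    induction gs with
    | nil => exact fun _ => ⟨InX.one, h1⟩
    | cons g gs ih =>
      intro hgs
      obtain ⟨i1, i2⟩ := ih fun x hx => hgs x (List.mem_cons_of_mem _ hx)
      have hg : InX g ∧ R g := by
        have := hgs g List.mem_cons_self
        simp only [List.mem_cons, List.not_mem_nil, or_false] at this
        rcases this with rfl | rfl | rfl | rfl
        · exact ⟨inX_mX, hX⟩
        · exact ⟨inX_mY, hY⟩
        · exact ⟨inX_mT, hT⟩
        · exact ⟨inX_pOm, hW⟩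
      exact ⟨hg.1.mm_mem i1, hmul _ _ hg.1 i1 hg.2 i2⟩
  have hgen : ∀ g ∈ [kX, kA, kB, qU, qL], InX g ∧ R g := by
    intro g hg
    simp only [List.mem_cons, List.not_mem_nil, or_false] at hg
    rcases hg with rfl | rfl | rfl | rfl | rfl
    · rw [← word_kX]; exact hword _ (by simp)
    · rw [← word_kA]; exact hword _ (by simp)
    · rw [← word_kB]; exact hword _ (by simp)
    · rw [← word_qU]; exact hword _ (by simp)
    · rw [← word_qL]; exact hword _ (by simp)
  induction hm with
  | one => exact h1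
  | mul g hg hm ih => exact hmul _ _ (hgen g hg).1 hm (hgen g hg).2 ih

theorem sig_conj_inX {m : List ℕ} (hm : InX m) : InX (mm sig (mm m sig)) := by
  refine inX_induction (fun m => InX (mm sig (mm m sig))) ?_ (fun a b _ hb h1 h2 => ?_) ?_ ?_ ?_ ?_ hm
  · rw [show mm sig (mm idM sig) = idM by decide +kernel]; exact InX.one
  · rw [← sig_conj_mm hb.toL]; exact h1.mm_mem h2
  · rw [sig_mX]; exact inX_word _ (by simp)
  · rw [sig_mY]; exact inX_word _ (by simp)
  · rw [sig_mT]; exact inX_word _ (by simp)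
  · rw [sig_pOm]; exact inX_pOm.mm_mem inX_pOm

theorem sig_w_vec (v : ℕ) : mv sig (mv pOm (mv sig v)) = mv pOm (mv pOm v) := by
  rw [← mv_mm pOm sig v, ← mv_mm sig, sig_pOm, mv_mm]

variable {G : Type u} [Group G] [Finite G] {z : G} {P : Subgroup G} {V : Type u} [AddCommGroup V]
variable {pc : ↥(Cen z)} {M : Space V} {f : ↥(Rad z) → V} {act : ↥(Cen z) → (V →+ V)}
  {π : ↥(Cen z) →* MulAut M22S} {α β τ : ↥(Cen z)} {x : ℕ → V} {C : V → ℕ}

/-- The standing data with coordinates. -/
structure Full (P : Subgroup G) (pc α β τ : ↥(Cen z)) (M : Space V) (f : ↥(Rad z) → V)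
    (act : ↥(Cen z) → (V →+ V)) (π : ↥(Cen z) →* MulAut M22S) (x : ℕ → V) (C : V → ℕ) : Prop where
  env : Env z P pc M f act π
  hα : (α : G) ∈ centralizer (P : Set G)
  hβ : (β : G) ∈ centralizer (P : Set G)
  hτ : (τ : G) ∈ centralizer (P : Set G)
  hα' : π α = MulAut.conj gA
  hβ' : π β = MulAut.conj gB
  hτ' : π τ = MulAut.conj gT
  triple : Triple M (act α) (act β) (act τ)
  coords : Coords M (act α) (act β) (act τ) x
  conv : Conv M (act α) x C

namespace Full

variable (F : Full P pc α β τ M f act π x C)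
include F

theorem mat_mul (g k : ↥(Cen z)) : matOf C (act (g * k)) = mm (matOf C (act g)) (matOf C (act k)) :=
  F.conv.mat_unique _ (by simp [mm, matOf]) fun v => by
    rw [mv_mm, F.conv.mat_spec, F.conv.mat_spec, F.env.act_mul]

theorem mat_one : matOf C (act (1 : ↥(Cen z))) = idM :=
  F.conv.mat_unique _ rfl fun v => by rw [F.env.act_one, idM_vec (F.conv.lt v)]

theorem tables {i : ℕ} (hi : i < 13) : mv mX (toCo (bitV i)) = toCo (xF i) ∧ mv mY (toCo (bitV i)) = toCo (yF i) ∧
    mv mT (toCo (bitV i)) = toCo (tF i) ∧ mv pOm (toCo (bitV i)) = toCo (wF i) := by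
  have h := List.all_eq_true.1 intertwine_table i (List.mem_range.2 hi)
  simp only [Bool.and_eq_true] at h
  exact ⟨Nat.eq_of_beq_eq_true h.1.1.1, Nat.eq_of_beq_eq_true h.1.1.2, Nat.eq_of_beq_eq_true h.1.2,
    Nat.eq_of_beq_eq_true h.2⟩

theorem mat_α : matOf C (act α) = mX :=
  F.conv.mat_unique _ rfl fun v =>
    F.conv.intertwine _ xF mX (fun i hi => (gen_lt hi).1) F.coords.part.a_x (fun i hi => (F.tables hi).1) v

theorem mat_β : matOf C (act β) = mY :=
  F.conv.mat_unique _ rfl fun v =>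
    F.conv.intertwine _ yF mY (fun i hi => (gen_lt hi).2.1) F.coords.b_x (fun i hi => (F.tables hi).2.1) v

theorem mat_τ : matOf C (act τ) = mT :=
  F.conv.mat_unique _ rfl fun v =>
    F.conv.intertwine _ tF mT (fun i hi => (gen_lt hi).2.2.2.1) F.coords.t_x (fun i hi => (F.tables hi).2.2.1) v

theorem C_w (v : V) : C (M.w v) = mv pOm (C v) :=
  F.conv.intertwine M.w wF pOm (fun i hi => (gen_lt hi).2.2.1) F.coords.part.w_x (fun i hi => (F.tables hi).2.2.2) v

theorem mat_p : matOf C (act pc) = pOm :=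
  F.conv.mat_unique _ rfl fun v => by rw [← F.env.mod.w_eq, F.C_w]

theorem inX_pow {g : ↥(Cen z)} (hg : InX (matOf C (act g))) : ∀ n : ℕ, InX (matOf C (act (g ^ n)))
  | 0 => by rw [pow_zero, F.mat_one]; exact InX.one
  | n + 1 => by rw [pow_succ, F.mat_mul]; exact (inX_pow hg n).mm_mem hg

theorem mat_congr {g k : ↥(Cen z)} (h : ∀ v, act g v = act k v) : matOf C (act g) = matOf C (act k) := by
  rw [show (act g) = act k from AddMonoidHom.ext h]

theorem inner_inX {g : ↥(Cen z)} (hg : IsI P π g) : InX (matOf C (act g)) := by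
  have E := F.env
  obtain ⟨hgC, σ, hσ⟩ := hg
  have hw : ∀ j, InX (matOf C (act (pc ^ j))) := F.inX_pow (by rw [F.mat_p]; exact inX_pOm)
  have key : ∀ τ₀ ∈ closure ({gA, gB, gT} : Set M22S), ∀ g : ↥(Cen z), (g : G) ∈ centralizer (P : Set G) →
      π g = MulAut.conj τ₀ → InX (matOf C (act g)) := by
    intro τ₀ hτ₀
    induction hτ₀ using closure_induction with
    | mem y hy =>
      intro g hgC hg
      obtain ⟨k, hk, hkπ, hkm⟩ : ∃ k : ↥(Cen z), (k : G) ∈ centralizer (P : Set G) ∧ π k = MulAut.conj y ∧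
          InX (matOf C (act k)) := by
        simp only [Set.mem_insert_iff, Set.mem_singleton_iff] at hy
        rcases hy with rfl | rfl | rfl
        · exact ⟨α, F.hα, F.hα', by rw [F.mat_α]; exact inX_mX⟩
        · exact ⟨β, F.hβ, F.hβ', by rw [F.mat_β]; exact inX_mY⟩
        · exact ⟨τ, F.hτ, F.hτ', by rw [F.mat_τ]; exact inX_mT⟩
      obtain ⟨j, hj⟩ := E.pair hgC hk (hg.trans hkπ.symm)
      rw [F.mat_congr (k := pc ^ j * k) fun v => by rw [E.act_mul, E.act_p, hj], F.mat_mul]
      exact (hw j).mm_mem hkm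
    | one =>
      intro g hgC hg
      obtain ⟨j, hj⟩ := E.ker_cp hgC (by rw [hg, map_one])
      rw [F.mat_congr (k := pc ^ j) fun v => by rw [E.act_p, hj]]
      exact hw j
    | mul y y' _ _ ih ih' =>
      intro g hgC hg
      obtain ⟨k, hk, hkπ⟩ := E.exists_lift y
      rw [show g = k * (k⁻¹ * g) by rw [mul_inv_cancel_left], F.mat_mul]
      exact (ih k hk hkπ).mm_mem (ih' _ (mul_mem (inv_mem hk) hgC) (by
        rw [map_mul, map_inv, hkπ, hg, map_mul, inv_mul_cancel_left]))
    | inv y _ ih =>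
      intro g hgC hg
      have h1 := F.inX_pow (ih g⁻¹ (inv_mem hgC) (by rw [map_inv, hg, map_inv, inv_inv])) (orderOf g - 1)
      have e : (g⁻¹) ^ (orderOf g - 1) = g := by
        rw [inv_pow, inv_eq_iff_mul_eq_one, ← pow_succ,
          Nat.sub_add_cancel (orderOf_pos g), pow_orderOf_eq_one]
      rwa [e] at h1
  exact key σ (gens_top ▸ mem_top σ) g hgC hσ

theorem realized {m : List ℕ} (hm : InX m) : ∃ g, IsI P π g ∧ matOf C (act g) = m := by
  refine inX_induction (fun m => ∃ g, IsI P π g ∧ matOf C (act g) = m)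
    ⟨1, ⟨one_mem _, 1, by rw [map_one, map_one]⟩, F.mat_one⟩ ?_
    ⟨α, ⟨F.hα, gA, F.hα'⟩, F.mat_α⟩ ⟨β, ⟨F.hβ, gB, F.hβ'⟩, F.mat_β⟩ ⟨τ, ⟨F.hτ, gT, F.hτ'⟩, F.mat_τ⟩
    ⟨pc, ⟨by simpa using F.env.p_centralizes 1, 1, by simpa using F.env.π_p 1⟩, F.mat_p⟩ hm
  rintro a b - - ⟨g, hg, rfl⟩ ⟨k, hk, rfl⟩
  exact ⟨g * k, hg.mul hk, F.mat_mul g k⟩

theorem real {L : V →+ V} (hL : Good P M act π L) : Real P act π L :=
  real_of_good F.env F.hα F.hβ F.hτ F.hα' F.hβ' F.hτ' F.triple F.coords hL

theorem norm_cp {n g : ↥(Cen z)} (hn : (n : G) ∈ normalizer (P : Set G)) (hg : IsI P π g) :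
    IsI P π (n * g * n⁻¹) := by
  obtain ⟨hgC, σ, hσ⟩ := hg
  refine ⟨?_, π n σ, ?_⟩
  · rw [mem_centralizer_iff]
    intro y hy
    have hy' : (n : G)⁻¹ * y * n ∈ P := by
      have := (mem_normalizer_iff''.1 hn y).1 hy
      exact this
    have hc := mem_centralizer_iff.1 hgC _ hy'
    show y * ((n : G) * g * (n : G)⁻¹) = (n : G) * g * (n : G)⁻¹ * y
    calc y * ((n : G) * g * (n : G)⁻¹) = (n : G) * ((n : G)⁻¹ * y * n * g) * (n : G)⁻¹ := by group
      _ = (n : G) * g * (n : G)⁻¹ * y := by rw [hc]; group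
  · rw [map_mul, map_mul, map_inv, hσ]
    refine MulEquiv.ext fun y => ?_
    simp [mul_assoc]

theorem linear {g : ↥(Cen z)} (hg : (g : G) ∈ centralizer (P : Set G)) : InX (matOf C (act g)) := by
  have E := F.env
  have hGood : Good P M act π (act g) :=
    { w := E.act_w hg
      q := E.act_q g
      surj := fun v => ⟨act g⁻¹ v, E.act_inv g v⟩
      norm := fun k hk => ⟨g * k * g⁻¹, F.norm_cp (centralizer_le_normalizer _ hg) hk, fun v => by
        rw [E.act_mul, E.act_mul, E.act_inv']⟩ }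
  obtain ⟨k, hk, hgk⟩ := F.real hGood
  rw [F.mat_congr hgk]
  exact F.inner_inX hk

/-- The semilinear involution is realised. -/
theorem exists_sig : ∃ s : ↥(Cen z), (s : G) ∈ normalizer (P : Set G) ∧
    (s : G) * pc * (s : G)⁻¹ = (pc : G)⁻¹ ∧ matOf C (act s) = sig := by
  have E := F.env
  have K := F.conv
  have hle : Cen z ⊓ centralizer (P : Set G) ≤ Cen z ⊓ normalizer (P : Set G) :=
    inf_le_inf_left _ (centralizer_le_normalizer _)
  obtain ⟨n, hn, hn'⟩ := SetLike.exists_of_lt (lt_of_le_of_ne hle (Ne.symm E.h.2.2.2.2.2.2.2.1))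
  have hinv : n * (pc : G) * n⁻¹ = (pc : G)⁻¹ := by
    rcases centralizes_or_inverts E.h hn.2 E.gen E.p3 with ⟨-, h1⟩ | h1
    · exact absurd (mem_inf.2 ⟨hn.1, h1⟩) hn'
    · exact h1
  set h0 : ↥(Cen z) := ⟨n, hn.1⟩ with hh0
  let S : V →+ V :=
    { toFun := fun v => vecOf C (mv sig (C v))
      map_zero' := by rw [K.zero, mv_zero, show vecOf C 0 = 0 from by rw [← K.zero, K.vecOf_C]]
      map_add' := fun u v => by rw [K.add, mv_xor, K.vecOf_xor (sig_lt _) (sig_lt _)] }
  have hS : ∀ v, C (S v) = mv sig (C v) := fun v => K.vecOf_spec (sig_lt _)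
  have hSS : ∀ v, S (S v) = v := fun v => K.inj (by rw [hS, hS, sig_sig_vec (K.lt v)])
  have hpp : h0 * pc = pc * pc * h0 := by
    refine Subtype.ext ?_
    show n * (pc : G) = pc * pc * n
    have h3 := E.p3
    rw [pow_succ, pow_two] at h3
    rw [← mul_inv_eq_iff_eq_mul, hinv]
    exact (eq_inv_of_mul_eq_one_left h3).symm
  have hGood : Good P M act π ((act h0).comp S) :=
    { w := fun v => by
        show act h0 (S (M.w v)) = M.w (act h0 (S v))
        have h1 : S (M.w v) = M.w (M.w (S v)) := K.inj (by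
          rw [hS, F.C_w, F.C_w, F.C_w, hS, ← sig_w_vec, sig_sig_vec (K.lt v)])
        have h2 : ∀ u, act h0 (M.w u) = M.w (M.w (act h0 u)) := fun u => by
          rw [E.mod.w_eq, E.mod.w_eq, E.mod.w_eq, ← E.act_mul, hpp, E.act_mul, E.act_mul]
        rw [h1, h2, h2, M.w3]
      q := fun v => by
        show M.q (act h0 (S v)) = M.q v
        rw [E.act_q, ← K.q, hS, ← K.q]
        exact beq_iff_eq.1 (List.all_eq_true.1 sig_qF (C v) (List.mem_range.2 (K.lt v)))
      surj := fun v => ⟨S (act h0⁻¹ v), by show act h0 (S (S (act h0⁻¹ v))) = v; rw [hSS, E.act_inv]⟩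
      norm := fun g hg => by
        obtain ⟨g', hg', hm⟩ := F.realized (sig_conj_inX (F.inner_inX hg))
        refine ⟨h0 * g' * h0⁻¹, F.norm_cp hn.2 hg', fun v => ?_⟩
        show act h0 (S (act g v)) = act (h0 * g' * h0⁻¹) (act h0 (S v))
        rw [E.act_mul, E.act_mul, E.act_inv']
        congr 1
        refine K.inj ?_
        rw [hS, ← K.mat_spec (act g) v, ← K.mat_spec (act g') (S v), hm, hS, mv_mm, mv_mm,
          sig_sig_vec (K.lt v)] }
  obtain ⟨g, hg, hgL⟩ := F.real hGood
  have hgp : (g : G) * pc = pc * g := (mem_centralizer_iff.1 hg.1 _ E.p_mem).symm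
  refine ⟨h0⁻¹ * g, mul_mem (inv_mem hn.2) (centralizer_le_normalizer _ hg.1), ?_, ?_⟩
  · show n⁻¹ * (g : G) * pc * (n⁻¹ * (g : G))⁻¹ = (pc : G)⁻¹
    have hflip : n⁻¹ * (pc : G) * n = (pc : G)⁻¹ := by
      have := congrArg (fun y => n⁻¹ * y⁻¹ * n) hinv
      simp only [inv_inv] at this
      rw [← this]
      group
    rw [mul_assoc n⁻¹, hgp, ← hflip]
    group
  · refine K.mat_unique _ rfl fun v => ?_
    rw [E.act_mul, ← hgL v, ← hS]
    show C (act h0⁻¹ (act h0 (S v))) = _
    rw [E.act_inv']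

end Full

/-- The frame. -/
theorem frame_exists_of_full (F : Full P pc α β τ M f act π x C) : Nonempty (Frame z P) := by
  classical
  have E := F.env
  have K := F.conv
  let co : G → ℕ := fun y => if hy : y ∈ Rad z then C (f ⟨y, hy⟩) else 0
  let mat : G → List ℕ := fun y => if hy : y ∈ Cen z then matOf C (act ⟨y, hy⟩) else idM
  have hco : ∀ (y : G) (hy : y ∈ Rad z), co y = C (f ⟨y, hy⟩) := fun y hy => dif_pos hy
  have hmat : ∀ (y : G) (hy : y ∈ Cen z), mat y = matOf C (act ⟨y, hy⟩) := fun y hy => dif_pos hy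
  obtain ⟨s, hsN, hsp, hsm⟩ := F.exists_sig
  have hlin : ∀ y ∈ CP z P, InX (mat y) := fun y hy => by
    rw [hmat y hy.1]
    exact F.linear hy.2
  have hid : ∀ y (hy : y ∈ Cen z), mat y = idM ↔ y ∈ Rad z := fun y hy => by
    rw [hmat y hy]
    constructor
    · intro he
      refine (E.act_rad ⟨y, hy⟩).1 fun v => K.inj ?_
      rw [← K.mat_spec, he, idM_vec (K.lt v)]
    · intro hR
      refine K.mat_unique _ rfl fun v => ?_
      rw [(E.act_rad ⟨y, hy⟩).2 hR, idM_vec (K.lt v)]
  have hmul : ∀ a ∈ Cen z, ∀ b ∈ Cen z, mat (a * b) = mm (mat a) (mat b) := fun a ha b hb => by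
    rw [hmat a ha, hmat b hb, hmat _ (mul_mem ha hb)]
    exact F.mat_mul ⟨a, ha⟩ ⟨b, hb⟩
  have hsmat : mat (s : G) = sig := by rw [hmat _ s.2]; exact hsm
  exact ⟨{
    type := E.h
    co := co
    mat := mat
    co_lt := fun y hy => by rw [hco y hy]; exact K.lt _
    co_mul := fun a ha b hb => by
      rw [hco a ha, hco b hb, hco _ (mul_mem ha hb), ← K.add, ← E.mod.f_mul]
      rfl
    co_eq_zero := fun y hy => by
      rw [hco y hy]
      exact ⟨fun he => (E.mod.f_eq_zero _).1 (K.eq_zero he),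
        fun he => by rw [(E.mod.f_eq_zero ⟨y, hy⟩).2 he, K.zero]⟩
    co_surj := fun v hv => by
      obtain ⟨u, hu⟩ := K.surj hv
      obtain ⟨⟨y, hy⟩, rfl⟩ := E.mod.f_surj u
      exact ⟨y, hy, by rw [hco y hy, hu]⟩
    sq := fun y hy => by
      rw [hco y hy, K.q]
      exact E.mod.f_sq ⟨y, hy⟩
    conj := fun g hg y hy => by
      rw [hco y hy, hmat g hg, hco _ (rad_conj hg hy), K.mat_spec, E.mod.act_f]
      rfl
    mat_inL := fun g hg => by
      obtain ⟨y, hy, n, ⟨hnC, hnN⟩, rfl⟩ := exists_decomp E.h hg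
      rw [hmul y (rad_le_cen z hy) n hnC, (hid y (rad_le_cen z hy)).2 hy]
      suffices InL (mat n) by rwa [inL_idM_mm this]
      rcases centralizes_or_inverts E.h hnN E.gen E.p3 with ⟨-, h1⟩ | h1
      · exact (hlin n ⟨hnC, h1⟩).toL
      · have hcp : n * (s : G) ∈ CP z P := by
          refine ⟨mul_mem hnC s.2, ?_⟩
          have hc : n * (s : G) * (pc : G) * (n * (s : G))⁻¹ = pc := by
            calc n * (s : G) * (pc : G) * (n * (s : G))⁻¹
                = n * ((s : G) * pc * (s : G)⁻¹) * n⁻¹ := by group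
              _ = pc := by rw [hsp, ← conj_inv, h1, inv_inv]
          refine mem_centralizer_iff.2 fun y hy => ?_
          rw [SetLike.mem_coe, E.gen] at hy
          obtain ⟨j, rfl⟩ := hy
          exact ((show Commute (n * (s : G)) (pc : G) from mul_inv_eq_iff_eq_mul.1 hc).zpow_right j).symm.eq
        have hX := (hlin _ hcp).toL
        rw [hmul n hnC _ s.2, hsmat] at hX
        have hsL : InL sig := by
          have := InL.mul sig sig_mem InL.one
          rwa [show mm sig idM = sig by decide +kernel] at this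
        have h := hX.mm_mem hsL
        have hlen : (mat n).length = 12 := by rw [hmat n hnC]; simp [matOf]
        rw [mm_assoc, sig_sig] at h
        have hn' : mm (mat n) idM = mat n := by
          refine List.ext_getElem (by rw [mm, List.length_map, hlen]; rfl) fun i h1 h2 => ?_
          simp only [mm, List.getElem_map]
          rw [show idM[i]'(by simp [idM]; omega) = 2 ^ i by simp [idM], mv_pow, List.getD_eq_getElem _ _ h2]
        rwa [hn'] at h
    mat_mul := hmul
    mat_eq_id := hid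
    mat_surj := fun m hm => by
      induction hm with
      | one => exact ⟨1, one_mem _, (hid 1 (one_mem _)).2 (one_mem _)⟩
      | mul g hg _ ih =>
        obtain ⟨k, hk, rfl⟩ := ih
        obtain ⟨r, hr, hrg⟩ : ∃ r ∈ Cen z ⊓ normalizer (P : Set G), mat r = g := by
          simp only [gensL, List.mem_cons, List.not_mem_nil, or_false] at hg
          have hx : ∀ g' ∈ [kX, kA, kB, qU, qL], ∃ r ∈ Cen z ⊓ normalizer (P : Set G), mat r = g' := by
            intro g' hg'
            obtain ⟨r, hr, hrm⟩ := F.realized (show InX g' by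
              have := InX.mul g' hg' InX.one
              rwa [show mm g' idM = g' from mm_idM (by
                have := InL.mul g' (by simp only [gensL, List.mem_cons, List.not_mem_nil, or_false] at hg' ⊢; tauto) InL.one
                rwa [show mm g' idM = g' by fin_cases hg' <;> decide +kernel] at this)] at this)
            exact ⟨r, ⟨r.2, centralizer_le_normalizer _ hr.1⟩, by rw [hmat _ r.2]; exact hrm⟩
          rcases hg with h | h | h | h | h | h
          · exact hx g (by simp [h])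
          · exact hx g (by simp [h])
          · exact hx g (by simp [h])
          · exact hx g (by simp [h])
          · exact hx g (by simp [h])
          · exact ⟨s, ⟨s.2, hsN⟩, hsmat.trans h.symm⟩
        exact ⟨r * k, mul_mem hr hk, by rw [hmul r hr.1 k hk.1, hrg]⟩
    mat_linear := hlin
    mat_scalar := ⟨pc, E.p_mem, by rw [hmat _ pc.2]; exact F.mat_p⟩ }⟩

end CfsgLib.J4Type.Ident

namespace CfsgLib.J4Type

open Cfsg

/-- Coordinates exist for every group of Janko-four type. -/
theorem frame_exists {G : Type u} [Group G] [Finite G] {z : G} {P : Subgroup G}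
    (h : IsOfJankoFourTypeWith z P) : Nonempty (Frame z P) := by
  obtain ⟨V, inst, pc, M, f, act, π, α, β, τ, x, E, h1, h2, h3, h4, h5, h6, T, C⟩ := Ident.exists_setup h
  obtain ⟨K, hK⟩ := Ident.exists_conv C.part
  exact Ident.frame_exists_of_full ⟨E, h1, h2, h3, h4, h5, h6, T, C, hK⟩

end CfsgLib.J4Type
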