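import Cfsg.Agent.Lib.Golay.M22Index
import Cfsg.Agent.Lib.Golay.Trans
import Cfsg.Agent.Lib.Golay.GenData

/-!
# Relations and generation for three elements of `M22`
-/

set_option autoImplicit false
set_option maxRecDepth 100000
set_option linter.style.longLine false

namespace CfsgLib.J4Type.Ident

open Cfsg CfsgLib.Golay CfsgLib.Mathieu

/-- `M22` as a stabiliser in `M24`. -/
abbrev M22S : Type := ↥(fixMasks X22)

/-- A straight-line program for the standard generators from the three elements. -/
def opsABT : List (ℕ × ℕ × ℕ) := [(1, 1, 967768981687868742388307053739378720), (1, 0, 984127060548370226294217438441592320), (2, 0, 978851401459278726226759635092295840), (5, 0, 978800513730011817956145701045453280), (4, 0, 959954267944808219815419425799148864), (7, 0, 969161214210665264116881158347930752), (7, 0, 974378908918799676358957584524580448), (7, 0, 971353101232807387749227027696393760), (10, 0, 971879096741452089626635664555674912), (11, 0, 971833183975295968971297840347720384), (10, 0, 973073997348934580672062975788784192),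 (11, 11, 959669988460121757471183630384091296), (12, 0, 970576785635892380139028965067629792), (15, 0, 966641952217922149115191423226140768), (14, 0, 974371409170330940188521218459781472), (17, 0, 982006587687607961316651009754974464), (18, 0, 976928181164888202398417351675005280), (18, 0, 965304856654094339036553526532200576), (18, 0, 966154423035274209126446237563865152), (21, 0, 970566082135727252058547678649600032), (20, 0, 980804462684674652975572175700561408), (21, 0, 977595280194769873182223350538218656), (22, 0, 961025655869604778083644747267198176)]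

theorem opsABT_ok : slpOK [CfsgLib.Mathieu.mA, CfsgLib.Mathieu.mB, CfsgLib.Mathieu.mT] opsABT M22genInit = true := by
  decide +kernel

theorem init_pow : M22genInit.all (powOneIn X22 11) = true := by decide +kernel

theorem gT_powers : powOneIn X22 4 CfsgLib.Mathieu.mT = true := by decide +kernel

theorem word_code : isProd CfsgLib.Mathieu.mA CfsgLib.Mathieu.mA 959669988460121757471183630384091296 = true ∧
    isProd 959669988460121757471183630384091296 CfsgLib.Mathieu.mT 967155822396705970715206161700787840 = true ∧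
    powOneIn X22 11 967155822396705970715206161700787840 = true := by
  decide +kernel

theorem gA_pow : gA ^ 11 = 1 := by rw [← gA_order]; exact pow_orderOf_eq_one _

theorem gB_pow : gB ^ 5 = 1 := by rw [← gB_order]; exact pow_orderOf_eq_one _

theorem gT_pow : gT ^ 4 = 1 := Subtype.ext (powOneIn_sound gT_powers).2

theorem gB_gA : gB * gA = gA ^ 3 * gB :=
  Subtype.ext (semiPowB_sound (inFix_valid mData_ok.2.1) (inFix_valid mData_ok.1) mData_ok.2.2.2.1)

theorem gT_gB : gT * gB = gB ^ 2 * gT :=
  Subtype.ext (semiPowB_sound (inFix_valid mData_ok.2.2.1) (inFix_valid mData_ok.2.1) mData_ok.2.2.2.2.1)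

theorem gAAT_pow : (gA * gA * gT) ^ 11 = 1 := by
  have ha := inFix_valid mData_ok.1
  have h1 := isProd_sound ha ha word_code.1
  have h2 := isProd_sound h1.1 (inFix_valid mData_ok.2.2.1) word_code.2.1
  refine Subtype.ext ?_
  show (permOf _ * permOf _ * permOf _) ^ 11 = 1
  rw [← h1.2, ← h2.2]
  exact (powOneIn_sound word_code.2.2).2

theorem gA_ne : gA ≠ 1 := fun e => by
  have := gA_order
  rw [e, orderOf_one] at this
  omega

theorem gens_top : Subgroup.closure ({gA, gB, gT} : Set M22S) = ⊤ := by
  rw [eq_top_iff, ← Subgroup.map_subtype_le_map_subtype]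
  refine (Subgroup.map_le_range _ _).trans ?_
  rw [Subgroup.range_subtype]
  refine fixMasks_le_of_gens chain22 (slpOK_sound (slpOK_sound (fun c hc => ?_) opsABT_ok) M22gen_ok)
  simp only [List.mem_cons, List.not_mem_nil, or_false] at hc
  rcases hc with rfl | rfl | rfl
  · exact ⟨gA, Subgroup.subset_closure (by simp), rfl⟩
  · exact ⟨gB, Subgroup.subset_closure (by simp), rfl⟩
  · exact ⟨gT, Subgroup.subset_closure (by simp), rfl⟩

theorem order11_top : Subgroup.closure {x : M22S | x ^ 11 = 1} = ⊤ :=
  closure_pow_eq_top chain22 init_pow M22gen_ok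

theorem cent_gA_mem {x : M22S} (hx : x * gA = gA * x) : ∃ i, x = gA ^ i := by
  have hle : Subgroup.zpowers gA ≤ Subgroup.centralizer ({gA} : Set M22S) := by
    rw [Subgroup.zpowers_le, Subgroup.mem_centralizer_singleton_iff]
  have he := Subgroup.eq_of_le_of_card_ge hle (by rw [cent_gA, Nat.card_zpowers, gA_order])
  have : x ∈ Subgroup.zpowers gA := he ▸ Subgroup.mem_centralizer_singleton_iff.2 hx
  rw [← mem_powers_iff_mem_zpowers] at this
  obtain ⟨i, hi⟩ := this
  exact ⟨i, hi.symm⟩

theorem cent_gB_mem {x : M22S} (hx : x * gB = gB * x) : ∃ i, x = gB ^ i := by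
  have hle : Subgroup.zpowers gB ≤ Subgroup.centralizer ({gB} : Set M22S) := by
    rw [Subgroup.zpowers_le, Subgroup.mem_centralizer_singleton_iff]
  have he := Subgroup.eq_of_le_of_card_ge hle (by rw [cent_gB, Nat.card_zpowers, gB_order])
  have : x ∈ Subgroup.zpowers gB := he ▸ Subgroup.mem_centralizer_singleton_iff.2 hx
  rw [← mem_powers_iff_mem_zpowers] at this
  obtain ⟨i, hi⟩ := this
  exact ⟨i, hi.symm⟩

theorem center_trivial {x : M22S} (hx : ∀ y, x * y = y * x) : x = 1 := by
  obtain ⟨i, rfl⟩ := cent_gA_mem (hx gA)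
  obtain ⟨j, hj⟩ := cent_gB_mem (hx gB)
  have h1 : orderOf (gA ^ i) ∣ 11 := orderOf_dvd_of_pow_eq_one (by rw [← pow_mul, mul_comm, pow_mul, gA_pow, one_pow])
  have h2 : orderOf (gA ^ i) ∣ 5 := orderOf_dvd_of_pow_eq_one (by
    rw [hj, ← pow_mul, mul_comm, pow_mul, gB_pow, one_pow])
  exact orderOf_eq_one_iff.1 (Nat.dvd_one.1 (by simpa using Nat.dvd_gcd h1 h2))

theorem conj_inj {σ ρ : M22S} (h : MulAut.conj σ = MulAut.conj ρ) : σ = ρ := by
  refine (inv_mul_eq_one.1 (center_trivial (x := ρ⁻¹ * σ) fun y => ?_)).symm
  have := congrArg (fun e : MulAut M22S => e y) h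
  simp only [MulAut.conj_apply] at this
  calc ρ⁻¹ * σ * y = ρ⁻¹ * (σ * y * σ⁻¹) * σ := by group
    _ = y * (ρ⁻¹ * σ) := by rw [this]; group

theorem gA_conj_gB (i : ℕ) : ∃ l, gA ^ l * (gB * gA ^ i) * (gA ^ l)⁻¹ = gB := by
  have h1 : ∀ l, gA ^ l * gB = gB * gA ^ (4 * l) := by
    have h0 : gA * gB = gB * gA ^ 4 := by
      have h3 : ∀ n, gB * gA ^ n = gA ^ (3 * n) * gB := by
        intro n
        induction n with
        | zero => simp
        | succ n ih => rw [pow_succ, ← mul_assoc, ih, mul_assoc, gB_gA, ← mul_assoc, ← pow_add]; ring_nf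
      rw [h3 4, show gA ^ (3 * 4) = gA by rw [show 3 * 4 = 11 + 1 from rfl, pow_succ, gA_pow, one_mul]]
    intro l
    induction l with
    | zero => simp
    | succ l ih => rw [pow_succ', mul_assoc, ih, ← mul_assoc, h0, mul_assoc, ← pow_add]; ring_nf
  refine ⟨7 * i, ?_⟩
  rw [← mul_assoc, h1, mul_assoc gB, ← pow_add, mul_inv_eq_iff_eq_mul]
  congr 1
  rw [show 4 * (7 * i) + i = 7 * i + 11 * (2 * i) by ring, pow_add, pow_mul gA 11, gA_pow, one_pow, mul_one]

end CfsgLib.J4Type.Ident
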