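import Cfsg.Agent.Lib.J4Type.Frame
import Cfsg.Agent.Lib.Solvable.PCore
import Cfsg.Agent.Lib.StructC.BurnsideBasis

/-!
# First consequences of the hypothesis of Janko-four type

The radical, the subgroup of order three, the Frattini decomposition of the centraliser and the map onto the
automorphism group of `M22`.
-/

set_option autoImplicit false
set_option linter.unusedSectionVars false

namespace CfsgLib.J4Type

open Cfsg Subgroup

variable {G : Type*} [Group G] [Finite G] {z : G} {P : Subgroup G} (h : IsOfJankoFourTypeWith z P)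

theorem rad_le_cen (z : G) : Rad z ≤ Cen z := by
  rintro _ ⟨x, -, rfl⟩
  exact x.2

theorem rad_conj {g x : G} (hg : g ∈ Cen z) (hx : x ∈ Rad z) : g * x * g⁻¹ ∈ Rad z := by
  obtain ⟨y, hy, rfl⟩ := hx
  exact ⟨⟨g, hg⟩ * y * ⟨g, hg⟩⁻¹, (CfsgLib.Solvable.pCore_normal 2 ↥(Cen z)).conj_mem y hy _, rfl⟩

include h

theorem z_sq : z * z = 1 := by
  rw [← pow_two, ← h.1, pow_orderOf_eq_one]

theorem z_ne : z ≠ 1 := fun e => by
  have := h.1
  rw [e, orderOf_one] at this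
  omega

theorem mem_zpowers_z {x : G} : x ∈ zpowers z ↔ x = 1 ∨ x = z := by
  constructor
  · intro hx
    obtain ⟨k, rfl⟩ := hx
    show z ^ k = 1 ∨ z ^ k = z
    rw [zpow_eq_zpow_emod' k (n := 2) (show z ^ 2 = 1 by rw [pow_two]; exact z_sq h)]
    rcases Int.emod_two_eq_zero_or_one k with e | e <;> simp [e]
  · rintro (rfl | rfl)
    · exact one_mem _
    · exact mem_zpowers _

theorem z_mem_rad : z ∈ Rad z := by
  refine h.2.2.2.1 ⟨mem_centralizer_singleton_iff.2 rfl, fun x hx => ?_⟩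
  exact (mem_centralizer_singleton_iff.1 (rad_le_cen z hx))

/-- The elements of the radical commuting with the radical. -/
theorem rad_center {x : G} (hx : x ∈ Rad z) (hc : ∀ y ∈ Rad z, x * y = y * x) : x = 1 ∨ x = z := by
  by_contra hne
  push Not at hne
  have hcard : Nat.card (center ↥(Rad z)) = 2 := h.2.1.2
  classical
  have h3 : ∀ a b c : center ↥(Rad z), a = b ∨ a = c ∨ b = c := fun a b c => by
    by_contra hh
    push Not at hh
    have : Fintype (center ↥(Rad z)) := Fintype.ofFinite _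
    have h3 : ({a, b, c} : Finset (center ↥(Rad z))).card = 3 :=
      Finset.card_eq_three.2 ⟨a, b, c, hh.1, hh.2.1, hh.2.2, rfl⟩
    have := Finset.card_le_univ ({a, b, c} : Finset (center ↥(Rad z)))
    rw [h3, ← Nat.card_eq_fintype_card, hcard] at this
    omega
  have hz : (⟨z, z_mem_rad h⟩ : ↥(Rad z)) ∈ center ↥(Rad z) := mem_center_iff.2 fun y =>
    Subtype.ext (mem_centralizer_singleton_iff.1 (rad_le_cen z y.2))
  have hx' : (⟨x, hx⟩ : ↥(Rad z)) ∈ center ↥(Rad z) := mem_center_iff.2 fun y => Subtype.ext (hc y y.2).symm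
  rcases h3 ⟨_, hx'⟩ ⟨_, hz⟩ 1 with e | e | e
  · exact hne.2 (congrArg (fun a : center ↥(Rad z) => (a.1 : G)) e)
  · exact hne.1 (congrArg (fun a : center ↥(Rad z) => (a.1 : G)) e)
  · exact z_ne h (congrArg (fun a : center ↥(Rad z) => (a.1 : G)) e)

theorem center_rad {x : ↥(Rad z)} (hx : x ∈ center ↥(Rad z)) : (x : G) = 1 ∨ (x : G) = z :=
  rad_center h x.2 fun y hy => (congrArg Subtype.val (mem_center_iff.1 hx ⟨y, hy⟩)).symm

theorem rad_sq {x : G} (hx : x ∈ Rad z) : x * x = 1 ∨ x * x = z := by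
  have : Fact (Nat.Prime 2) := ⟨Nat.prime_two⟩
  have h1 := CfsgLib.StructC.pow_mem_frattini h.2.1.1.1 (⟨x, hx⟩ : ↥(Rad z))
  rw [h.2.1.1.2.1, pow_two] at h1
  exact center_rad h h1

theorem rad_comm {x y : G} (hx : x ∈ Rad z) (hy : y ∈ Rad z) :
    x * y * x⁻¹ * y⁻¹ = 1 ∨ x * y * x⁻¹ * y⁻¹ = z := by
  have h1 : (⟨x, hx⟩ : ↥(Rad z)) * ⟨y, hy⟩ * ⟨x, hx⟩⁻¹ * ⟨y, hy⟩⁻¹ ∈ center ↥(Rad z) := by
    rw [← h.2.1.1.2.2, ← commutatorElement_def]
    exact commutator_mem_commutator (mem_top _) (mem_top _)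
  exact center_rad h h1

/-- A generator of the subgroup of order three. -/
theorem exists_gen : ∃ p, p ∈ P ∧ p ≠ 1 ∧ p ^ 3 = 1 ∧ P = zpowers p := by
  have : Fact (Nat.Prime 3) := ⟨Nat.prime_three⟩
  have hcard : Nat.card P = 3 := h.2.2.2.2.2.1
  have : Nontrivial P := Finite.one_lt_card_iff_nontrivial.1 (by omega)
  obtain ⟨p, hp⟩ := exists_ne (1 : P)
  have hp3 : orderOf (p : G) = 3 := by
    rw [Subgroup.orderOf_coe]
    exact orderOf_eq_prime (by rw [← hcard]; exact pow_card_eq_one') hp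
  refine ⟨p, p.2, fun e => hp (Subtype.ext e), by rw [← hp3, pow_orderOf_eq_one], ?_⟩
  exact (Subgroup.eq_of_le_of_card_ge (zpowers_le.2 p.2) (by rw [Nat.card_zpowers, hp3, hcard])).symm

theorem p_le_cen : P ≤ Cen z := by
  obtain ⟨N, -, hN, -, -, -, hP⟩ := h.2.2.2.2.1
  exact hP.trans hN

theorem rad_inf_p {x : G} (hx : x ∈ Rad z) (hxP : x ∈ P) : x = 1 := by
  have h3 : x ^ 3 = 1 := by
    have := congrArg Subtype.val (pow_card_eq_one' (x := (⟨x, hxP⟩ : P)))
    rwa [h.2.2.2.2.2.1] at this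
  rcases rad_sq h hx with e | e
  · rwa [pow_succ, pow_two, e, one_mul] at h3
  · exfalso
    rw [pow_succ, pow_two, e] at h3
    have h4 : x = z := by rw [← one_mul x, ← z_sq h, mul_assoc, h3, mul_one]
    rw [h4, z_sq h] at h3
    rw [h4, z_sq h] at e
    exact z_ne h e.symm

theorem rad_fixed {x : G} (hx : x ∈ Rad z) (hc : x ∈ centralizer (P : Set G)) : x = 1 ∨ x = z := by
  have : x ∈ zpowers z := h.2.2.2.2.2.2.1 ▸ (⟨hx, hc⟩ : x ∈ Rad z ⊓ centralizer (P : Set G))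
  exact (mem_zpowers_z h).1 this

theorem rad_normalizing {x : G} (hx : x ∈ Rad z) (hn : x ∈ normalizer (P : Set G)) : x = 1 ∨ x = z := by
  refine rad_fixed h hx fun q hq => ?_
  have h1 : x * q * x⁻¹ * q⁻¹ ∈ P := P.mul_mem ((mem_normalizer_iff.1 hn q).1 hq) (P.inv_mem hq)
  have h2 : x * q * x⁻¹ * q⁻¹ ∈ Rad z := by
    rw [show x * q * x⁻¹ * q⁻¹ = x * (q * x⁻¹ * q⁻¹) by group]
    exact mul_mem hx (rad_conj (p_le_cen h hq) (inv_mem hx))
  have := rad_inf_p h h2 h1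
  rw [mul_inv_eq_one, mul_inv_eq_iff_eq_mul] at this
  exact this.symm

theorem mem_mul_p {N : Subgroup G} (hEN : Rad z ≤ N) (hPN : P ≤ N) (hcard : Nat.card ↥N = 3 * Nat.card ↥(Rad z))
    {a : G} (ha : a ∈ N) : ∃ x ∈ Rad z, ∃ q ∈ P, a = x * q := by
  let f : ↥(Rad z) × ↥P → ↥N := fun xq => ⟨xq.1 * xq.2, mul_mem (hEN xq.1.2) (hPN xq.2.2)⟩
  have hf : Function.Injective f := by
    rintro ⟨x, q⟩ ⟨x', q'⟩ he
    have he' : (x : G) * q = x' * q' := congrArg Subtype.val he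
    have h1 : ((x' : G))⁻¹ * x = q' * (q : G)⁻¹ := by
      rw [eq_mul_inv_iff_mul_eq, mul_assoc, he', inv_mul_cancel_left]
    have h2 := rad_inf_p h (mul_mem (inv_mem x'.2) x.2) (h1 ▸ mul_mem q'.2 (inv_mem q.2))
    rw [inv_mul_eq_one] at h2
    obtain rfl : x = x' := Subtype.ext h2.symm
    exact Prod.ext rfl (Subtype.ext (mul_left_cancel he'))
  obtain ⟨⟨x, q⟩, hxq⟩ := ((Nat.bijective_iff_injective_and_card f).2 ⟨hf, by
    rw [Nat.card_prod, hcard, h.2.2.2.2.2.1, mul_comm]⟩).2 ⟨a, ha⟩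
  exact ⟨x, x.2, q, q.2, (congrArg Subtype.val hxq).symm⟩

/-- The normal subgroup of index `|Aut M22|` and its decomposition. -/
theorem exists_map : ∃ π : ↥(Cen z) →* MulAut ↥Spor.M22, Function.Surjective π ∧
    ∀ g : ↥(Cen z), π g = 1 ↔ ∃ x ∈ Rad z, ∃ q ∈ P, (g : G) = x * q := by
  obtain ⟨N, hEN, hNH, -, hcard, ⟨hn, ⟨e⟩⟩, hPN⟩ := h.2.2.2.2.1
  have := hn
  refine ⟨e.toMonoidHom.comp (QuotientGroup.mk' _), e.surjective.comp (QuotientGroup.mk'_surjective _),
    fun g => ?_⟩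
  simp only [MonoidHom.comp_apply, MulEquiv.coe_toMonoidHom, map_eq_one_iff e e.injective,
    QuotientGroup.mk'_apply, QuotientGroup.eq_one_iff, mem_subgroupOf]
  exact ⟨fun hgN => mem_mul_p h hEN hPN hcard hgN, fun ⟨x, hx, q, hq, e'⟩ => e' ▸ mul_mem (hEN hx) (hPN hq)⟩

/-- The Frattini argument. -/
theorem exists_decomp {g : G} (hg : g ∈ Cen z) :
    ∃ x ∈ Rad z, ∃ n ∈ Cen z ⊓ normalizer (P : Set G), g = x * n := by
  obtain ⟨N, hEN, hNH, hnorm, hcard, -, hPN⟩ := h.2.2.2.2.1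
  have : Fact (Nat.Prime 3) := ⟨Nat.prime_three⟩
  set P' := P.map (MulAut.conj g).toMonoidHom with hP'
  have hP'N : P' ≤ N := by
    rintro _ ⟨q, hq, rfl⟩
    exact (mem_normalizer_iff.1 (hnorm hg) q).1 (hPN hq)
  have hfac : (Nat.card ↥N).factorization 3 = 1 := by
    rw [hcard, h.2.2.1, Nat.factorization_mul (by norm_num) (by norm_num), Finsupp.add_apply,
      Nat.prime_three.factorization_self, Nat.factorization_pow]
    simp [Nat.Prime.factorization Nat.prime_two]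
  have hc : ∀ Q : Subgroup G, Q ≤ N → Nat.card Q = 3 → Nat.card (Q.subgroupOf N) = 3 ^ (Nat.card ↥N).factorization 3 :=
    fun Q hQ hQc => by rw [hfac, pow_one, Nat.card_congr (subgroupOfEquivOfLe hQ).toEquiv, hQc]
  have hP'c : Nat.card P' = 3 := by
    rw [hP', ← Nat.card_congr (P.equivMapOfInjective _ (MulAut.conj g).injective).toEquiv, h.2.2.2.2.2.1]
  let S : Sylow 3 ↥N := Sylow.ofCard (P.subgroupOf N) (hc P hPN h.2.2.2.2.2.1)
  let S' : Sylow 3 ↥N := Sylow.ofCard (P'.subgroupOf N) (hc P' hP'N hP'c)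
  obtain ⟨a, ha⟩ := MulAction.exists_smul_eq ↥N S S'
  have hne : ((a : G))⁻¹ * g ∈ normalizer (P : Set G) := by
    have key : ∀ q ∈ P, (a : G)⁻¹ * (g * q * g⁻¹) * a ∈ P := fun q hq => by
      have hm : (⟨g * q * g⁻¹, hP'N ⟨q, hq, rfl⟩⟩ : ↥N) ∈ (S' : Subgroup ↥N) := ⟨q, hq, rfl⟩
      rw [← ha, Sylow.coe_subgroup_smul] at hm
      obtain ⟨y, hy, hy'⟩ := hm
      have e : a * y * a⁻¹ = (⟨g * q * g⁻¹, hP'N ⟨q, hq, rfl⟩⟩ : ↥N) := hy'
      have e' : (a : G) * y * (a : G)⁻¹ = g * q * g⁻¹ := congrArg Subtype.val e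
      rw [← e', mul_assoc (a : G)⁻¹, inv_mul_cancel_right, inv_mul_cancel_left]
      exact hy
    rw [mem_normalizer_iff]
    intro q
    refine ⟨fun hq => ?_, fun hq => ?_⟩
    · have := key q hq
      simpa [mul_assoc] using this
    · have hmap : P.map (MulAut.conj ((a : G)⁻¹ * g)).toMonoidHom = P :=
        Subgroup.eq_of_le_of_card_ge (by
          rintro _ ⟨y, hy, rfl⟩
          simpa [mul_assoc] using key y hy)
          (by rw [← Nat.card_congr (P.equivMapOfInjective _ (MulAut.conj _).injective).toEquiv])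
      have hq' : (a : G)⁻¹ * g * q * ((a : G)⁻¹ * g)⁻¹ ∈ P.map (MulAut.conj ((a : G)⁻¹ * g)).toMonoidHom := by
        rw [hmap]; exact hq
      obtain ⟨y, hy, e⟩ := hq'
      have : (MulAut.conj ((a : G)⁻¹ * g)) y = (MulAut.conj ((a : G)⁻¹ * g)) q := e
      rwa [← (MulAut.conj _).injective this]
  obtain ⟨x, hx, q, hq, e⟩ := mem_mul_p h hEN hPN hcard a.2
  refine ⟨x, hx, q * ((a : G)⁻¹ * g), ⟨(Cen z).mul_mem (p_le_cen h hq) ((Cen z).mul_mem ((Cen z).inv_mem (hNH a.2)) hg),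
    (normalizer (P : Set G)).mul_mem (le_normalizer hq) hne⟩, ?_⟩
  rw [← mul_assoc, ← e, mul_inv_cancel_left]

/-- An element acting trivially on the radical modulo its centre lies in it. -/
theorem mem_rad_of_trivial {g : G} (hg : g ∈ Cen z)
    (ht : ∀ x ∈ Rad z, g * x * g⁻¹ = x ∨ g * x * g⁻¹ = x * z) : g ∈ Rad z := by
  let K : Subgroup ↥(Cen z) :=
    { carrier := {k | ∀ x ∈ Rad z, (k : G) * x * (k : G)⁻¹ = x ∨ (k : G) * x * (k : G)⁻¹ = x * z}
      one_mem' := fun x _ => Or.inl (by simp)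
      mul_mem' := fun {a b} ha hb x hx => by
        have hz : (a : G) * z * (a : G)⁻¹ = z := by
          rw [mem_centralizer_singleton_iff.1 a.2, mul_inv_cancel_right]
        have e : ((a * b : ↥(Cen z)) : G) * x * ((a * b : ↥(Cen z)) : G)⁻¹ =
            (a : G) * ((b : G) * x * (b : G)⁻¹) * (a : G)⁻¹ := by simp [mul_assoc]
        rw [e]
        rcases hb x hx with e' | e' <;> rw [e']
        · exact ha x hx
        · rw [show (a : G) * (x * z) * (a : G)⁻¹ = ((a : G) * x * (a : G)⁻¹) * ((a : G) * z * (a : G)⁻¹) by group, hz]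
          rcases ha x hx with e'' | e'' <;> rw [e'']
          · exact Or.inr rfl
          · exact Or.inl (by rw [mul_assoc, z_sq h, mul_one])
      inv_mem' := fun {a} ha x hx => by
        have hx' : (a : G)⁻¹ * x * (a : G) ∈ Rad z := by
          have := rad_conj (inv_mem a.2) hx; rwa [inv_inv] at this
        have hz : z * (a : G) = (a : G) * z := (mem_centralizer_singleton_iff.1 a.2).symm
        have e0 : (a : G) * ((a : G)⁻¹ * x * (a : G)) * (a : G)⁻¹ = x := by group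
        rcases ha _ hx' with e' | e' <;> rw [e0] at e'
        · exact Or.inl (by rw [Subgroup.coe_inv, inv_inv]; exact e'.symm)
        · refine Or.inr ?_
          rw [Subgroup.coe_inv, inv_inv]
          conv_rhs => rw [e']
          rw [mul_assoc _ z z, z_sq h, mul_one] }
  have hKn : K.Normal := ⟨fun k hk b x hx => by
    have hx' : (b : G)⁻¹ * x * (b : G) ∈ Rad z := by
      have := rad_conj (inv_mem b.2) hx; rwa [inv_inv] at this
    have hz : (b : G) * z * (b : G)⁻¹ = z := by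
      rw [mem_centralizer_singleton_iff.1 b.2, mul_inv_cancel_right]
    have e : ((b * k * b⁻¹ : ↥(Cen z)) : G) * x * ((b * k * b⁻¹ : ↥(Cen z)) : G)⁻¹ =
        (b : G) * ((k : G) * ((b : G)⁻¹ * x * (b : G)) * (k : G)⁻¹) * (b : G)⁻¹ := by simp [mul_assoc]
    rw [e]
    rcases hk _ hx' with e' | e' <;> rw [e']
    · exact Or.inl (by group)
    · refine Or.inr ?_
      rw [show (b : G) * ((b : G)⁻¹ * x * (b : G) * z) * (b : G)⁻¹ = x * ((b : G) * z * (b : G)⁻¹) by group, hz]⟩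
  have hK2 : IsPGroup 2 K := fun k => by
    have hsq : (k : G) * (k : G) ∈ Rad z := by
      refine h.2.2.2.1 ⟨mul_mem k.1.2 k.1.2, fun x hx => ?_⟩
      have hz : (k : G) * z * (k : G)⁻¹ = z := by
        rw [mem_centralizer_singleton_iff.1 k.1.2, mul_inv_cancel_right]
      have e : (k : G) * ((k : G) * x * (k : G)⁻¹) * (k : G)⁻¹ = x := by
        rcases k.2 x hx with e' | e' <;> rw [e']
        · exact e'
        · rw [show (k : G) * (x * z) * (k : G)⁻¹ = ((k : G) * x * (k : G)⁻¹) * ((k : G) * z * (k : G)⁻¹) by group, hz,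
            e', mul_assoc, z_sq h, mul_one]
      rw [← mul_assoc, ← mul_assoc, mul_assoc _ (k : G)⁻¹, ← mul_inv_rev, mul_inv_eq_iff_eq_mul] at e
      rw [← mul_assoc, mul_assoc x] at *
      exact e.symm
    obtain ⟨j, hj⟩ := h.2.1.1.1 ⟨_, hsq⟩
    refine ⟨j + 1, Subtype.ext (Subtype.ext ?_)⟩
    have hj' := congrArg (Subtype.val : ↥(Rad z) → G) hj
    simp only [SubgroupClass.coe_pow, OneMemClass.coe_one] at hj' ⊢
    rw [pow_succ', pow_mul, pow_two]
    exact hj'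
  exact ⟨⟨g, hg⟩, CfsgLib.Solvable.le_pCore hKn hK2 ht, rfl⟩

/-- Elements of the normaliser either centralise or invert. -/
theorem centralizes_or_inverts {n p : G} (hn : n ∈ normalizer (P : Set G)) (hp : P = zpowers p) (hp3 : p ^ 3 = 1) :
    n * p * n⁻¹ = p ∧ n ∈ centralizer (P : Set G) ∨ n * p * n⁻¹ = p⁻¹ := by
  have hm : n * p * n⁻¹ ∈ P := (mem_normalizer_iff.1 hn p).1 (hp ▸ mem_zpowers p)
  rw [hp] at hm
  obtain ⟨k, hk⟩ := hm
  replace hk : p ^ k = n * p * n⁻¹ := hk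
  rw [zpow_eq_zpow_emod' k (n := 3) hp3] at hk
  have h0 : 0 ≤ k % (3 : ℕ) := Int.emod_nonneg _ (by norm_num)
  have h1 : k % (3 : ℕ) < 3 := Int.emod_lt_of_pos _ (by norm_num)
  interval_cases hcase : k % (3 : ℕ)
  · exfalso
    rw [zpow_zero] at hk
    have : p = 1 := conj_eq_one_iff.1 hk.symm
    have hP := h.2.2.2.2.2.1
    rw [hp, this, zpowers_one_eq_bot, card_bot] at hP
    omega
  · rw [zpow_one] at hk
    refine Or.inl ⟨hk.symm, ?_⟩
    refine mem_centralizer_iff.2 fun y hy => ?_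
    rw [hp] at hy
    obtain ⟨j, rfl⟩ := hy
    exact ((show Commute n p from mul_inv_eq_iff_eq_mul.1 hk.symm).zpow_right j).symm.eq
  · refine Or.inr ?_
    rw [← hk]
    have : p ^ (2 : ℕ) = p⁻¹ := eq_inv_of_mul_eq_one_left (by rw [← pow_succ, hp3])
    simpa using this

end CfsgLib.J4Type
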