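import Cfsg.Agent.Lib.J4Type.Ident.Model

/-!
# Combinations along the bits of a number
-/

set_option autoImplicit false
set_option linter.unusedSectionVars false

namespace CfsgLib.J4Type.Ident

variable {V : Type*} [AddCommGroup V]

/-- the sum of the `x i` over the set bits below `k` -/
def comb (x : ℕ → V) : ℕ → ℕ → V
  | 0, _ => 0
  | k + 1, n => bif n.testBit k then x k + comb x k n else comb x k n

/-- the polarisation of a map into `Bool` -/
def pB (q : V → Bool) (u v : V) : Bool := xor (q (u + v)) (xor (q u) (q v))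

theorem comb_congr {x y : ℕ → V} : ∀ (k n : ℕ), (∀ i, i < k → x i = y i) → comb x k n = comb y k n
  | 0, _, _ => rfl
  | k + 1, n, h => by
    simp only [comb]
    rw [h k (Nat.lt_succ_self k), comb_congr k n fun i hi => h i (Nat.lt_succ_of_lt hi)]

theorem comb_bits (x : ℕ → V) : ∀ (k : ℕ) {n m : ℕ}, (∀ i, i < k → n.testBit i = m.testBit i) →
    comb x k n = comb x k m
  | 0, _, _, _ => rfl
  | k + 1, n, m, h => by
    simp only [comb]
    rw [h k (Nat.lt_succ_self k), comb_bits x k fun i hi => h i (Nat.lt_succ_of_lt hi)]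

theorem comb_zero (x : ℕ → V) : ∀ k, comb x k 0 = 0
  | 0 => rfl
  | k + 1 => by simp [comb, comb_zero x k]

theorem comb_mod (x : ℕ → V) (k n : ℕ) : comb x k (n % 2 ^ k) = comb x k n :=
  comb_bits x k fun i hi => by simp [Nat.testBit_mod_two_pow, hi]

theorem comb_bit (x : ℕ → V) : ∀ (k i : ℕ), comb x k (bitV i) = if i < k then x i else 0
  | 0, i => by simp [comb]
  | k + 1, i => by
    have e : bitV i = 2 ^ i := by simp [bitV, Nat.shiftLeft_eq]
    simp only [comb, comb_bit x k i]
    rw [e, Nat.testBit_two_pow]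
    rcases lt_trichotomy i k with h | h | h
    · simp [h, Nat.ne_of_lt h, Nat.lt_succ_of_lt h]
    · subst h; simp
    · simp [Nat.not_lt.2 h.le, (Nat.ne_of_gt h)]; omega

theorem map_comb {W : Type*} [AddCommGroup W] (f : V →+ W) (x : ℕ → V) :
    ∀ k n, f (comb x k n) = comb (fun i => f (x i)) k n
  | 0, _ => map_zero f
  | k + 1, n => by
    simp only [comb]
    cases n.testBit k <;> simp [map_comb f x k n]

variable (two : ∀ v : V, v + v = 0)
include two

theorem comb_xor (x : ℕ → V) : ∀ k a b, comb x k (a ^^^ b) = comb x k a + comb x k b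
  | 0, _, _ => (add_zero 0).symm
  | k + 1, a, b => by
    simp only [comb, Nat.testBit_xor, comb_xor x k a b]
    cases a.testBit k <;> cases b.testBit k <;> simp [add_assoc, add_comm, add_left_comm]
    rw [← add_assoc (x k), two, zero_add]

theorem comb_appK (x : ℕ → V) (K : ℕ) (f : ℕ → ℕ) :
    ∀ k n, comb x K (appK f k n) = comb (fun i => comb x K (f i)) k n
  | 0, _ => comb_zero x K
  | k + 1, n => by
    simp only [comb, appK]
    cases n.testBit k
    · exact comb_appK x K f k n
    · show comb x K (f k ^^^ appK f k n) = _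
      rw [comb_xor two, comb_appK x K f k n]
      rfl

omit two in
theorem appK_xor (f : ℕ → ℕ) : ∀ k a b, appK f k (a ^^^ b) = appK f k a ^^^ appK f k b
  | 0, _, _ => (Nat.xor_self 0).symm
  | k + 1, a, b => by
    simp only [appK, Nat.testBit_xor, appK_xor f k a b]
    cases a.testBit k <;> cases b.testBit k <;>
      simp [show ∀ p q : ℕ, Nat.xor p q = p ^^^ q from fun _ _ => rfl, Nat.xor_assoc, Nat.xor_comm, Nat.xor_left_comm]

theorem add_eq_zero_iff_eq {u v : V} : u + v = 0 ↔ u = v :=
  ⟨fun h => by rw [← add_zero u, ← two v, ← add_assoc, h, zero_add], fun h => h ▸ two u⟩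

variable (q : V → Bool) (bil : ∀ u v x, pB q (u + v) x = xor (pB q u x) (pB q v x))
include bil

omit two in
theorem pB_zero (x : V) : pB q 0 x = false := by
  have := bil 0 0 x
  rw [add_zero] at this
  revert this
  cases pB q 0 x <;> simp

omit two in
theorem q_zero : q 0 = false := by
  have := pB_zero q bil 0
  simp [pB] at this
  exact this

omit two in
theorem pB_comm (u v : V) : pB q u v = pB q v u := by
  simp only [pB, add_comm u v, Bool.xor_comm (q u) (q v)]

omit two in
theorem pB_comb (x : ℕ → V) (u : V) : ∀ k n, pB q (comb x k n) u = parK (fun i => pB q (x i) u) k n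
  | 0, _ => pB_zero q bil u
  | k + 1, n => by
    simp only [comb, parK]
    cases n.testBit k
    · exact pB_comb x u k n
    · simp only [cond_true]
      rw [bil, pB_comb x u k n]

omit two bil in
theorem parK_congr {f g : ℕ → Bool} : ∀ (k n : ℕ), (∀ i, i < k → f i = g i) → parK f k n = parK g k n
  | 0, _, _ => rfl
  | k + 1, n, h => by
    simp only [parK]
    rw [h k (Nat.lt_succ_self k), parK_congr k n fun i hi => h i (Nat.lt_succ_of_lt hi)]

omit two bil in
theorem qevK_congr {d d' : ℕ → Bool} {B B' : ℕ → ℕ → Bool} : ∀ (k n : ℕ), (∀ i, i < k → d i = d' i) →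
    (∀ i j, j < i → i < k → B i j = B' i j) → qevK d B k n = qevK d' B' k n
  | 0, _, _, _ => rfl
  | k + 1, n, h, h' => by
    simp only [qevK]
    rw [h k (Nat.lt_succ_self k), parK_congr k n fun j hj => h' k j hj (Nat.lt_succ_self k),
      qevK_congr k n (fun i hi => h i (Nat.lt_succ_of_lt hi)) fun i j hj hi => h' i j hj (Nat.lt_succ_of_lt hi)]

omit two in
theorem q_comb (x : ℕ → V) : ∀ k n,
    q (comb x k n) = qevK (fun i => q (x i)) (fun i j => pB q (x j) (x i)) k n
  | 0, _ => q_zero q bil
  | k + 1, n => by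
    simp only [comb, qevK]
    cases n.testBit k
    · exact q_comb x k n
    · simp only [cond_true]
      rw [← q_comb x k n, ← pB_comb q bil x (x k) k n, pB, add_comm (x k)]
      cases q (comb x k n + x k) <;> cases q (comb x k n) <;> cases q (x k) <;> rfl

end CfsgLib.J4Type.Ident
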