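import Cfsg.Agent.Lib.J4Type.Ident.Quot
import Cfsg.Agent.Lib.J4Type.Ident.Mathieu

/-!
# Lifts of the three elements of `M22` to isometries of the radical modulo its centre
-/

set_option autoImplicit false
set_option linter.unusedSectionVars false

universe u

namespace CfsgLib.J4Type.Ident

open Cfsg Subgroup CfsgLib.Golay

variable {G : Type u} [Group G] [Finite G] {z : G} {P : Subgroup G} {V : Type u} [AddCommGroup V]

/-- The standing data. -/
structure Env (z : G) (P : Subgroup G) (pc : ↥(Cen z)) (M : Space V) (f : ↥(Rad z) → V)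
    (act : ↥(Cen z) → (V →+ V)) (π : ↥(Cen z) →* MulAut M22S) : Prop where
  h : IsOfJankoFourTypeWith z P
  mod : Mod z pc M f act
  p3 : (pc : G) ^ 3 = 1
  p_ne : (pc : G) ≠ 1
  gen : P = zpowers (pc : G)
  π_surj : Function.Surjective π
  π_ker : ∀ g : ↥(Cen z), π g = 1 ↔ ∃ x ∈ Rad z, ∃ q ∈ P, (g : G) = x * q

theorem exists_env (h : IsOfJankoFourTypeWith z P) :
    ∃ (V : Type u) (_ : AddCommGroup V) (pc : ↥(Cen z)) (M : Space V) (f : ↥(Rad z) → V)
      (act : ↥(Cen z) → (V →+ V)) (π : ↥(Cen z) →* MulAut M22S), Env z P pc M f act π := by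
  obtain ⟨p, hp, hp1, hp3, hgen⟩ := exists_gen h
  obtain ⟨V, inst, M, f, act, hmod⟩ := exists_mod h hp hp1 hp3 hgen
  obtain ⟨π, hs, hk⟩ := exists_map h
  let e : MulAut ↥Spor.M22 ≃* MulAut M22S := MulAut.congr (MulEquiv.subgroupCongr sporM22_eq)
  exact ⟨V, inst, _, M, f, act, e.toMonoidHom.comp π, h, hmod, hp3, hp1, hgen, e.surjective.comp hs, fun g => by
    rw [MonoidHom.comp_apply, MulEquiv.coe_toMonoidHom, map_eq_one_iff e e.injective, hk]⟩

variable {pc : ↥(Cen z)} {M : Space V} {f : ↥(Rad z) → V} {act : ↥(Cen z) → (V →+ V)}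
  {π : ↥(Cen z) →* MulAut M22S}

namespace Env

variable (E : Env z P pc M f act π)
include E

theorem act_mul (g k : ↥(Cen z)) (v : V) : act (g * k) v = act g (act k v) := by
  obtain ⟨x, rfl⟩ := E.mod.f_surj v
  rw [E.mod.act_f, E.mod.act_f, E.mod.act_f]
  exact congrArg f (Subtype.ext (by simp [radConj, mul_assoc]))

theorem act_one (v : V) : act 1 v = v := by
  obtain ⟨x, rfl⟩ := E.mod.f_surj v
  rw [E.mod.act_f]
  exact congrArg f (Subtype.ext (by simp [radConj]))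

theorem act_inv (g : ↥(Cen z)) (v : V) : act g (act g⁻¹ v) = v := by
  rw [← E.act_mul, mul_inv_cancel, E.act_one]

theorem act_inv' (g : ↥(Cen z)) (v : V) : act g⁻¹ (act g v) = v := by
  rw [← E.act_mul, inv_mul_cancel, E.act_one]

theorem act_pow (g : ↥(Cen z)) (n : ℕ) (v : V) : act (g ^ n) v = (act g)^[n] v := by
  induction n with
  | zero => rw [pow_zero, E.act_one]; rfl
  | succ n ih => rw [pow_succ', E.act_mul, ih, Function.iterate_succ_apply']

theorem act_p (n : ℕ) (v : V) : act (pc ^ n) v = M.w^[n] v := by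
  rw [E.act_pow]
  congr 1
  exact funext fun u => (E.mod.w_eq u).symm

theorem act_q (g : ↥(Cen z)) (v : V) : M.q (act g v) = M.q v := by
  obtain ⟨x, rfl⟩ := E.mod.f_surj v
  have h1 := E.mod.f_sq (radConj g x)
  rw [← E.mod.act_f] at h1
  have h3 : (radConj g x : G) * (radConj g x : G) = (g : G) * ((x : G) * x) * (g : G)⁻¹ := by
    show (g : G) * x * (g : G)⁻¹ * ((g : G) * x * (g : G)⁻¹) = _
    group
  rw [h3, E.mod.f_sq x] at h1
  have hne := z_ne E.h
  cases hq : M.q (f x) <;> cases hq' : M.q (act g (f x)) <;> simp [hq, hq', conj_z E.h g, hne, Ne.symm hne] at h1 ⊢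

theorem act_rad (g : ↥(Cen z)) : (∀ v, act g v = v) ↔ (g : G) ∈ Rad z := by
  have hfe : ∀ x y : ↥(Rad z), f x = f y ↔ (y : G) = x ∨ (y : G) = x * z := fun x y => by
    have h0 : f x = f y ↔ f (x⁻¹ * y) = 0 := by
      have hinv : f x + f x⁻¹ = 0 := by
        rw [← E.mod.f_mul, mul_inv_cancel, E.mod.f_eq_zero]
        exact Or.inl rfl
      rw [E.mod.f_mul, show f x⁻¹ = f x from ((add_eq_zero_iff_eq M.two).1 hinv).symm, add_eq_zero_iff_eq M.two]
    rw [h0, E.mod.f_eq_zero, Subgroup.coe_mul, Subgroup.coe_inv, inv_mul_eq_one, inv_mul_eq_iff_eq_mul]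
    exact or_congr_left ⟨Eq.symm, Eq.symm⟩
  constructor
  · intro hg
    refine mem_rad_of_trivial E.h g.2 fun x hx => ?_
    have h1 := hg (f ⟨x, hx⟩)
    rw [E.mod.act_f, eq_comm, hfe] at h1
    exact h1
  · intro hg v
    obtain ⟨x, rfl⟩ := E.mod.f_surj v
    rw [E.mod.act_f, eq_comm, hfe]
    show (g : G) * x * (g : G)⁻¹ = x ∨ (g : G) * x * (g : G)⁻¹ = x * z
    rcases rad_comm E.h hg x.2 with e | e
    · exact Or.inl (mul_inv_eq_one.1 e)
    · refine Or.inr ?_
      rw [mul_inv_eq_iff_eq_mul, mem_centralizer_singleton_iff.1 (rad_le_cen z x.2) |>.symm] at e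
      exact e

theorem p_mem : (pc : G) ∈ P := E.gen ▸ mem_zpowers _

theorem π_rad {g : ↥(Cen z)} (hg : (g : G) ∈ Rad z) : π g = 1 :=
  (E.π_ker g).2 ⟨g, hg, 1, one_mem P, (mul_one _).symm⟩

theorem π_p (n : ℕ) : π (pc ^ n) = 1 :=
  (E.π_ker _).2 ⟨1, one_mem _, _, pow_mem E.p_mem n, by simp⟩

theorem π_eq_of_act {g k : ↥(Cen z)} (he : ∀ v, act g v = act k v) : π g = π k := by
  have h1 := E.π_rad ((E.act_rad (k⁻¹ * g)).1 fun v => by rw [E.act_mul, he, E.act_inv'])
  rw [map_mul, map_inv, inv_mul_eq_one] at h1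
  exact h1.symm

theorem comm_p {g : ↥(Cen z)} (hg : (g : G) ∈ centralizer (P : Set G)) : Commute pc g :=
  Subtype.ext (mem_centralizer_iff.1 hg _ E.p_mem)

theorem p_centralizes (n : ℕ) : ((pc ^ n : ↥(Cen z)) : G) ∈ centralizer (P : Set G) := by
  rw [mem_centralizer_iff]
  intro y hy
  rw [SetLike.mem_coe, E.gen] at hy
  obtain ⟨j, rfl⟩ := hy
  rw [Subgroup.coe_pow]
  exact ((Commute.refl (pc : G)).zpow_left j).pow_right n

theorem act_w {g : ↥(Cen z)} (hg : (g : G) ∈ centralizer (P : Set G)) (v : V) :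
    act g (M.w v) = M.w (act g v) := by
  rw [E.mod.w_eq, E.mod.w_eq, ← E.act_mul, ← E.act_mul, (E.comm_p hg).eq]

theorem act_wn {g : ↥(Cen z)} (hg : (g : G) ∈ centralizer (P : Set G)) (n : ℕ) (v : V) :
    act g (M.w^[n] v) = M.w^[n] (act g v) := by
  induction n with
  | zero => rfl
  | succ n ih => rw [Function.iterate_succ_apply', E.act_w hg, ih, Function.iterate_succ_apply']

theorem ker_cp {g : ↥(Cen z)} (hg : (g : G) ∈ centralizer (P : Set G)) (h1 : π g = 1) :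
    ∃ j, ∀ v, act g v = M.w^[j] v := by
  obtain ⟨x, hx, q, hq, he⟩ := (E.π_ker g).1 h1
  rw [E.gen, ← mem_powers_iff_mem_zpowers] at hq
  obtain ⟨j, rfl⟩ := hq
  refine ⟨j, fun v => ?_⟩
  rw [← E.act_p]
  have hg' : g = (⟨x, rad_le_cen z hx⟩ : ↥(Cen z)) * pc ^ j := Subtype.ext (by simpa using he)
  rw [hg', E.act_mul, (E.act_rad ⟨x, rad_le_cen z hx⟩).2 hx]

theorem pair {g k : ↥(Cen z)} (hg : (g : G) ∈ centralizer (P : Set G)) (hk : (k : G) ∈ centralizer (P : Set G))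
    (he : π g = π k) : ∃ j, ∀ v, act g v = M.w^[j] (act k v) := by
  obtain ⟨j, hj⟩ := E.ker_cp (g := g * k⁻¹) (mul_mem hg (inv_mem hk)) (by rw [map_mul, map_inv, he, mul_inv_cancel])
  refine ⟨j, fun v => ?_⟩
  rw [← hj, ← E.act_mul, inv_mul_cancel_right]

theorem w_periodic {j : ℕ} (hj : ∀ v, M.w^[j] v = v) : j % 3 = 0 := by
  have : Nontrivial V := by
    have : Finite V := Nat.finite_of_card_ne_zero (by rw [M.card]; norm_num)
    exact Finite.one_lt_card_iff_nontrivial.1 (by rw [M.card]; norm_num)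
  obtain ⟨v, hv⟩ := exists_ne (0 : V)
  exact M.w_inj (i := j) (j := 0) hv (hj v)

theorem pow_fix {n : ℕ} (hn : n % 3 ≠ 0) {g k : ↥(Cen z)} (hg : (g : G) ∈ centralizer (P : Set G))
    (hk : (k : G) ∈ centralizer (P : Set G)) (he : π g = π k) (hgn : ∀ v, act (g ^ n) v = v)
    (hkn : ∀ v, act (k ^ n) v = v) : ∀ v, act g v = act k v := by
  obtain ⟨j, hj⟩ := E.pair hg hk he
  have hi : ∀ m v, act (g ^ m) v = M.w^[j * m] (act (k ^ m) v) := by
    intro m
    induction m with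
    | zero => intro v; simp [E.act_one]
    | succ m ih =>
      intro v
      rw [pow_succ', E.act_mul, ih, E.act_wn hg, hj, pow_succ', E.act_mul, ← Function.iterate_add_apply,
        Nat.mul_succ]
  have h0 := E.w_periodic (j := j * n) fun v => by
    conv_lhs => rw [← hkn v]
    rw [← hi, hgn]
  have hj0 : j % 3 = 0 := by
    rw [Nat.mul_mod] at h0
    have h1 : j % 3 < 3 := Nat.mod_lt _ (by norm_num)
    have h2 : n % 3 < 3 := Nat.mod_lt _ (by norm_num)
    interval_cases hj3 : j % 3 <;> interval_cases hn3 : n % 3 <;> simp_all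
  intro v
  rw [hj, ← M.w_mod, hj0]
  rfl

/-- Inner automorphisms are induced by elements centralising the subgroup of order three. -/
theorem exists_lift (σ : M22S) :
    ∃ g : ↥(Cen z), (g : G) ∈ centralizer (P : Set G) ∧ π g = MulAut.conj σ := by
  let S : Subgroup M22S := (((centralizer (P : Set G)).subgroupOf (Cen z)).map π).comap MulAut.conj
  suffices S = ⊤ by
    obtain ⟨g, hg, he⟩ := (this ▸ mem_top σ : σ ∈ S)
    exact ⟨g, hg, he⟩
  rw [eq_top_iff, ← order11_top, closure_le]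
  intro τ (hτ : τ ^ 11 = 1)
  obtain ⟨g, hg⟩ := E.π_surj (MulAut.conj τ)
  obtain ⟨x, hx, n, ⟨hnC, hnN⟩, he⟩ := exists_decomp E.h g.2
  refine ⟨⟨n, hnC⟩, ?_, ?_⟩
  swap
  · have hgn : g = (⟨x, rad_le_cen z hx⟩ : ↥(Cen z)) * ⟨n, hnC⟩ := Subtype.ext he
    rw [hgn, map_mul, E.π_rad (g := ⟨x, rad_le_cen z hx⟩) hx, one_mul] at hg
    exact hg
  rcases centralizes_or_inverts E.h hnN E.gen E.p3 with ⟨-, h1⟩ | h1
  · exact h1
  exfalso
  have hgn : g = (⟨x, rad_le_cen z hx⟩ : ↥(Cen z)) * ⟨n, hnC⟩ := Subtype.ext he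
  rw [hgn, map_mul, E.π_rad (g := ⟨x, rad_le_cen z hx⟩) hx, one_mul] at hg
  have hπ : π ((⟨n, hnC⟩ : ↥(Cen z)) ^ 11) = 1 := by rw [map_pow, hg, ← map_pow, hτ, map_one]
  obtain ⟨y, hy, q, hq, hyq⟩ := (E.π_ker _).1 hπ
  replace hyq : n ^ 11 = y * q := hyq
  have hyN : y ∈ normalizer (P : Set G) := by
    rw [show y = n ^ 11 * q⁻¹ by rw [hyq, mul_inv_cancel_right]]
    exact mul_mem (pow_mem hnN 11) (le_normalizer (inv_mem hq))
  have hyP : y * (pc : G) = pc * y := by
    rcases rad_normalizing E.h hy hyN with rfl | rfl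
    · simp
    · exact (mem_centralizer_singleton_iff.1 pc.2).symm
  have hqP : q * (pc : G) = pc * q := by
    rw [E.gen] at hq
    obtain ⟨j, rfl⟩ := hq
    exact ((Commute.refl (pc : G)).zpow_left j).eq
  have hc : n ^ 11 * (pc : G) * (n ^ 11)⁻¹ = pc := by
    rw [hyq, mul_inv_eq_iff_eq_mul, mul_assoc, hqP, ← mul_assoc, hyP, mul_assoc]
  have hodd : ∀ k, n ^ (2 * k + 1) * (pc : G) * (n ^ (2 * k + 1))⁻¹ = (pc : G)⁻¹ := by
    intro k
    induction k with
    | zero => simpa using h1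
    | succ k ih =>
      rw [show 2 * (k + 1) + 1 = (2 * k + 1) + 1 + 1 by ring, pow_succ' n, pow_succ' n]
      calc n * (n * n ^ (2 * k + 1)) * (pc : G) * (n * (n * n ^ (2 * k + 1)))⁻¹
          = n * (n * (n ^ (2 * k + 1) * (pc : G) * (n ^ (2 * k + 1))⁻¹) * n⁻¹) * n⁻¹ := by group
        _ = (pc : G)⁻¹ := by rw [ih, ← conj_inv, h1, inv_inv, h1]
  have h2 := (hodd 5).symm.trans hc
  refine E.p_ne ?_
  have h3 := E.p3
  rw [pow_succ, pow_two, ← mul_eq_one_iff_inv_eq.2 h2] at h3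
  simpa using h3

theorem exists_lift_pow {σ : M22S} {n : ℕ} (hn : n % 3 ≠ 0) (hσ : σ ^ n = 1) :
    ∃ g : ↥(Cen z), (g : G) ∈ centralizer (P : Set G) ∧ π g = MulAut.conj σ ∧ ∀ v, act (g ^ n) v = v := by
  obtain ⟨g, hg, hgπ⟩ := E.exists_lift σ
  obtain ⟨j, hj⟩ := E.ker_cp (g := g ^ n) (pow_mem hg n) (by rw [map_pow, hgπ, ← map_pow, hσ, map_one])
  refine ⟨g * pc ^ (2 * j * n), mul_mem hg (E.p_centralizes _), by rw [map_mul, E.π_p, mul_one, hgπ], fun v => ?_⟩
  rw [((E.comm_p hg).symm.pow_right _).mul_pow, E.act_mul, ← pow_mul, E.act_p, hj, ← Function.iterate_add_apply,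
    ← M.w_mod]
  have : (j + 2 * j * n * n) % 3 = 0 := by
    have h2 : n % 3 = 1 ∨ n % 3 = 2 := by omega
    have h3 : n * n % 3 = 1 := by rcases h2 with e | e <;> simp [Nat.mul_mod, e]
    rw [mul_assoc (2 * j) n n, Nat.add_mod, Nat.mul_mod, h3, mul_one, Nat.mod_mod, ← Nat.add_mod]
    omega
  rw [this]
  rfl

/-- The three lifts. -/
theorem exists_triple : ∃ α β τ : ↥(Cen z), (α : G) ∈ centralizer (P : Set G) ∧
    (β : G) ∈ centralizer (P : Set G) ∧ (τ : G) ∈ centralizer (P : Set G) ∧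
    π α = MulAut.conj gA ∧ π β = MulAut.conj gB ∧ π τ = MulAut.conj gT ∧
    Triple M (act α) (act β) (act τ) := by
  obtain ⟨α, hα, hα', hα11⟩ := E.exists_lift_pow (σ := gA) (n := 11) (by norm_num) gA_pow
  obtain ⟨β, hβ, hβ', hβ5⟩ := E.exists_lift_pow (σ := gB) (n := 5) (by norm_num) gB_pow
  obtain ⟨τ, hτ, hτ', hτ4⟩ := E.exists_lift_pow (σ := gT) (n := 4) (by norm_num) gT_pow
  refine ⟨α, β, τ, hα, hβ, hτ, hα', hβ', hτ', ?_⟩
  have hba : ∀ v, act (β * α * β⁻¹) v = act (α ^ 3) v := by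
    refine E.pow_fix (n := 11) (by norm_num) (mul_mem (mul_mem hβ hα) (inv_mem hβ)) (pow_mem hα 3) ?_ ?_ ?_
    · rw [map_mul, map_mul, map_inv, map_pow, hα', hβ', ← map_pow, ← map_inv, ← map_mul, ← map_mul, gB_gA,
        mul_inv_cancel_right]
    · intro v; rw [conj_pow, E.act_mul, E.act_mul, hα11, E.act_inv]
    · intro v; rw [← pow_mul, mul_comm, pow_mul, E.act_pow]; exact Function.iterate_fixed (hα11 v) 3
  have htb : ∀ v, act (τ * β * τ⁻¹) v = act (β ^ 2) v := by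
    refine E.pow_fix (n := 5) (by norm_num) (mul_mem (mul_mem hτ hβ) (inv_mem hτ)) (pow_mem hβ 2) ?_ ?_ ?_
    · rw [map_mul, map_mul, map_inv, map_pow, hβ', hτ', ← map_pow, ← map_inv, ← map_mul, ← map_mul, gT_gB,
        mul_inv_cancel_right]
    · intro v; rw [conj_pow, E.act_mul, E.act_mul, hβ5, E.act_inv]
    · intro v; rw [← pow_mul, mul_comm, pow_mul, E.act_pow]; exact Function.iterate_fixed (hβ5 v) 2
  refine
    { ea := { w_comm := E.act_w hα, q_inv := E.act_q α, pow := fun v => by rw [← E.act_pow, hα11], ne := ?_ }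
      b_w := E.act_w hβ, b_q := E.act_q β, b_a := fun v => ?_, b5 := fun v => by rw [← E.act_pow, hβ5]
      t_w := E.act_w hτ, t_q := E.act_q τ, t_b := fun v => ?_, t4 := fun v => by rw [← E.act_pow, hτ4]
      word := ?_ }
  · by_contra hne
    push Not at hne
    refine gA_ne (conj_inj ?_)
    rw [← hα', map_one]
    exact E.π_rad ((E.act_rad α).1 hne)
  · have := hba (act β v)
    rw [E.act_mul, E.act_mul, E.act_inv', E.act_pow] at this
    exact this
  · have := htb (act τ v)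
    rw [E.act_mul, E.act_mul, E.act_inv', E.act_pow] at this
    exact this
  · obtain ⟨k, hk⟩ := E.ker_cp (g := (α * α * τ) ^ 11) (pow_mem (mul_mem (mul_mem hα hα) hτ) 11) (by
      rw [map_pow, map_mul, map_mul, hα', hτ', ← map_mul, ← map_mul, ← map_pow, gAAT_pow, map_one])
    refine ⟨k, fun v => ?_⟩
    rw [← hk, E.act_pow]
    congr 1
    exact funext fun u => by rw [E.act_mul, E.act_mul]

theorem swap : Env z P (pc * pc) M.swap f act π where
  h := E.h
  mod :=
    { f_mul := E.mod.f_mul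
      f_eq_zero := E.mod.f_eq_zero
      f_surj := E.mod.f_surj
      f_sq := E.mod.f_sq
      act_f := E.mod.act_f
      w_eq := fun v => by
        show M.w (M.w v) = _
        rw [E.mod.w_eq, E.mod.w_eq, E.act_mul] }
  p3 := by rw [Subgroup.coe_mul, (Commute.refl (pc : G)).mul_pow, E.p3, one_mul]
  p_ne := fun e => E.p_ne (by
    have h3 := E.p3
    rw [pow_succ, pow_two] at h3
    rw [Subgroup.coe_mul] at e
    simpa [e] using h3)
  gen := by
    refine le_antisymm ?_ (zpowers_le.2 (mul_mem E.p_mem E.p_mem))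
    rw [E.gen, zpowers_le]
    refine ⟨2, ?_⟩
    show ((pc : G) * pc) ^ (2 : ℤ) = pc
    rw [zpow_ofNat, pow_two, show (pc : G) * pc * (pc * pc) = pc ^ 3 * pc by rw [pow_succ, pow_two]; group, E.p3,
      one_mul]
  π_surj := E.π_surj
  π_ker := E.π_ker

end Env

/-- Coordinates for the three lifts, after a possible change of the generator of the subgroup of order three. -/
theorem exists_setup (h : IsOfJankoFourTypeWith z P) :
    ∃ (V : Type u) (_ : AddCommGroup V) (pc : ↥(Cen z)) (M : Space V) (f : ↥(Rad z) → V)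
      (act : ↥(Cen z) → (V →+ V)) (π : ↥(Cen z) →* MulAut M22S) (α β τ : ↥(Cen z)) (x : ℕ → V),
      Env z P pc M f act π ∧ (α : G) ∈ centralizer (P : Set G) ∧ (β : G) ∈ centralizer (P : Set G) ∧
      (τ : G) ∈ centralizer (P : Set G) ∧
      π α = MulAut.conj gA ∧ π β = MulAut.conj gB ∧ π τ = MulAut.conj gT ∧
      Triple M (act α) (act β) (act τ) ∧ Coords M (act α) (act β) (act τ) x := by
  obtain ⟨V, inst, pc, M, f, act, π, E⟩ := exists_env h
  obtain ⟨α, β, τ, h1, h2, h3, h4, h5, h6, T⟩ := E.exists_triple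
  obtain ⟨x, C | C⟩ := exists_coords T
  · exact ⟨V, inst, pc, M, f, act, π, α, β, τ, x, E, h1, h2, h3, h4, h5, h6, T, C⟩
  · exact ⟨V, inst, pc * pc, M.swap, f, act, π, α, β, τ, x, E.swap, h1, h2, h3, h4, h5, h6, T.swap, C⟩

end CfsgLib.J4Type.Ident
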