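import Cfsg.Agent.Lib.J4Type.Ident.Env

/-!
# Linear isometries normalising the group of inner lifts
-/

set_option autoImplicit false
set_option linter.unusedSectionVars false
set_option maxRecDepth 100000

universe u

namespace CfsgLib.J4Type.Ident

open Cfsg Subgroup CfsgLib.Golay

theorem sylow_exp : ∀ k, k < 11 → k ≠ 0 → ∃ j, j < 5 ∧ (k * 3 ^ j % 11 = 1 ∨ k * 3 ^ j % 11 = 10) := by
  decide +kernel

theorem neg_table : appK (fun i => bitV (10 * i % 11)) 11 2047 = 2047 ∧
    appK (fun i => bitV (10 * i % 11)) 11 570 = 1476 := by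
  decide +kernel

theorem card_M22S_fact : (Nat.card M22S).factorization 11 = 1 := by
  have hc : Nat.card M22S = 40320 * 11 := by
    rw [card_fixMasks chain22]
    decide +kernel
  rw [hc, Nat.factorization_mul (by norm_num) (by norm_num), Finsupp.add_apply,
    (show Nat.Prime 11 by norm_num).factorization_self, Nat.factorization_eq_zero_of_not_dvd (by norm_num)]

variable {G : Type u} [Group G] [Finite G] {z : G} {P : Subgroup G} {V : Type u} [AddCommGroup V]
variable {pc : ↥(Cen z)} {M : Space V} {f : ↥(Rad z) → V} {act : ↥(Cen z) → (V →+ V)}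
  {π : ↥(Cen z) →* MulAut M22S}

/-- An element centralising `P` inducing an inner automorphism. -/
def IsI (P : Subgroup G) (π : ↥(Cen z) →* MulAut M22S) (g : ↥(Cen z)) : Prop :=
  (g : G) ∈ centralizer (P : Set G) ∧ ∃ σ, π g = MulAut.conj σ

theorem IsI.mul {g k : ↥(Cen z)} (hg : IsI P π g) (hk : IsI P π k) : IsI P π (g * k) := by
  obtain ⟨σ, hσ⟩ := hg.2
  obtain ⟨ρ, hρ⟩ := hk.2
  exact ⟨mul_mem hg.1 hk.1, σ * ρ, by rw [map_mul, hσ, hρ, map_mul]⟩

theorem IsI.inv {g : ↥(Cen z)} (hg : IsI P π g) : IsI P π g⁻¹ := by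
  obtain ⟨σ, hσ⟩ := hg.2
  exact ⟨inv_mem hg.1, σ⁻¹, by rw [map_inv, hσ, map_inv]⟩

theorem IsI.pow {g : ↥(Cen z)} (hg : IsI P π g) (n : ℕ) : IsI P π (g ^ n) := by
  obtain ⟨σ, hσ⟩ := hg.2
  exact ⟨pow_mem hg.1 n, σ ^ n, by rw [map_pow, hσ, map_pow]⟩

/-- A linear isometry normalising the inner lifts. -/
structure Good (P : Subgroup G) (M : Space V) (act : ↥(Cen z) → (V →+ V)) (π : ↥(Cen z) →* MulAut M22S)
    (L : V →+ V) : Prop where
  w : ∀ v, L (M.w v) = M.w (L v)
  q : ∀ v, M.q (L v) = M.q v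
  surj : Function.Surjective L
  norm : ∀ g, IsI P π g → ∃ g', IsI P π g' ∧ ∀ v, L (act g v) = act g' (L v)

theorem Good.inj {L : V →+ V} (hL : Good P M act π L) : Function.Injective L := by
  have : Finite V := Nat.finite_of_card_ne_zero (by rw [M.card]; norm_num)
  exact Finite.injective_iff_surjective.2 hL.surj

theorem Good.iter {L : V →+ V} {g g' : ↥(Cen z)} (h : ∀ v, L (act g v) = act g' (L v)) (n : ℕ) (v : V) :
    L ((act g)^[n] v) = (act g')^[n] (L v) := by
  induction n with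
  | zero => rfl
  | succ n ih => rw [Function.iterate_succ_apply', h, ih, Function.iterate_succ_apply']

variable (E : Env z P pc M f act π)
include E

theorem Good.comp {L : V →+ V} (hL : Good P M act π L) {k : ↥(Cen z)} (hk : IsI P π k) :
    Good P M act π ((act k).comp L) where
  w v := by
    show act k (L (M.w v)) = M.w (act k (L v))
    rw [hL.w, E.act_w hk.1]
  q v := by
    show M.q (act k (L v)) = _
    rw [E.act_q, hL.q]
  surj v := by
    obtain ⟨u, hu⟩ := hL.surj (act k⁻¹ v)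
    exact ⟨u, by show act k (L u) = v; rw [hu, E.act_inv]⟩
  norm g hg := by
    obtain ⟨g', hg', h⟩ := hL.norm g hg
    refine ⟨k * g' * k⁻¹, (hk.mul hg').mul hk.inv, fun v => ?_⟩
    show act k (L (act g v)) = act (k * g' * k⁻¹) (act k (L v))
    rw [h, E.act_mul, E.act_mul, E.act_inv']

omit E in
/-- The map is realised by an inner lift. -/
def Real (P : Subgroup G) (act : ↥(Cen z) → (V →+ V)) (π : ↥(Cen z) →* MulAut M22S) (L : V →+ V) : Prop :=
  ∃ g, IsI P π g ∧ ∀ v, L v = act g v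

theorem Real.of_comp {L : V →+ V} {k : ↥(Cen z)} (hk : IsI P π k) (h : Real P act π ((act k).comp L)) :
    Real P act π L := by
  obtain ⟨g, hg, hg'⟩ := h
  refine ⟨k⁻¹ * g, hk.inv.mul hg, fun v => ?_⟩
  rw [E.act_mul, ← hg' v]
  show L v = act k⁻¹ (act k (L v))
  rw [E.act_inv']

variable {α β τ : ↥(Cen z)} {x : ℕ → V}
variable (hα : (α : G) ∈ centralizer (P : Set G)) (hβ : (β : G) ∈ centralizer (P : Set G))
  (hτ : (τ : G) ∈ centralizer (P : Set G))
  (hα' : π α = MulAut.conj gA) (hβ' : π β = MulAut.conj gB) (hτ' : π τ = MulAut.conj gT)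
  (T : Triple M (act α) (act β) (act τ)) (C : Coords M (act α) (act β) (act τ) x)
include hα hβ hτ hα' hβ' hτ' T C

/-- The last step: commuting with the first two generators. -/
theorem real_of_comm_two {L : V →+ V} (hL : Good P M act π L) (ha : ∀ v, L (act α v) = act α (L v))
    (hb : ∀ v, L (act β v) = act β (L v)) : Real P act π L := by
  obtain ⟨τ', hτ'I, hτ'L⟩ := hL.norm τ ⟨hτ, gT, hτ'⟩
  obtain ⟨σ, hσ⟩ := hτ'I.2
  have hrel : ∀ u, act (τ' * β) u = act (β * β * τ') u := fun u => by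
    obtain ⟨v, rfl⟩ := hL.surj u
    rw [E.act_mul, E.act_mul, E.act_mul, ← hb, ← hτ'L, T.t_b, hb, hb, hτ'L]
  have hπ := E.π_eq_of_act hrel
  rw [map_mul, map_mul, map_mul, hσ, hβ', ← map_mul, ← map_mul, ← map_mul] at hπ
  have hσB := conj_inj hπ
  rw [← pow_two] at hσB
  obtain ⟨i, hi⟩ := cent_gB_mem (x := gT⁻¹ * σ) (by
    calc gT⁻¹ * σ * gB = gT⁻¹ * (gB ^ 2 * gT) * (gT⁻¹ * σ) := by rw [mul_assoc gT⁻¹ σ, hσB]; group
      _ = gB * (gT⁻¹ * σ) := by rw [← gT_gB]; group)
  have hσ' : σ = gT * gB ^ i := by rw [← hi, mul_inv_cancel_left]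
  obtain ⟨s, hs⟩ := E.pair hτ'I.1 (k := τ * β ^ i) (mul_mem hτ (pow_mem hβ i)) (by
    rw [hσ, map_mul, map_pow, hτ', hβ', hσ', map_mul, map_pow])
  obtain ⟨l, hl⟩ := cent_scalar C (g := L) (i := i) (s := s) hL.w hL.q ha hb T fun v => by
    rw [hτ'L, hs, ← E.act_wn (mul_mem hτ (pow_mem hβ i) : ((τ * β ^ i : ↥(Cen z)) : G) ∈ _), E.act_mul, E.act_pow]
  exact ⟨pc ^ l, ⟨E.p_centralizes l, 1, by rw [E.π_p, map_one]⟩, fun v => by rw [hl, E.act_p]⟩

/-- Commuting with the generator of order eleven. -/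
theorem real_of_comm {L : V →+ V} (hL : Good P M act π L) (ha : ∀ v, L (act α v) = act α (L v)) :
    Real P act π L := by
  obtain ⟨β₁, hβ₁, hβ₁L⟩ := hL.norm β ⟨hβ, gB, hβ'⟩
  obtain ⟨σ, hσ⟩ := hβ₁.2
  have hrel : ∀ u, act (β₁ * α) u = act (α ^ 3 * β₁) u := fun u => by
    obtain ⟨v, rfl⟩ := hL.surj u
    rw [E.act_mul, E.act_mul, E.act_pow, ← ha, ← hβ₁L, T.b_a, Good.iter ha, hβ₁L]
  have hπ := E.π_eq_of_act hrel
  rw [map_mul, map_mul, map_pow, hσ, hα', ← map_pow, ← map_mul, ← map_mul] at hπ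
  have hσA := conj_inj hπ
  obtain ⟨i, hi⟩ := cent_gA_mem (x := gB⁻¹ * σ) (by
    calc gB⁻¹ * σ * gA = gB⁻¹ * (gA ^ 3 * gB) * (gB⁻¹ * σ) := by rw [mul_assoc gB⁻¹ σ, hσA]; group
      _ = gA * (gB⁻¹ * σ) := by rw [← gB_gA]; group)
  have hσ' : σ = gB * gA ^ i := by rw [← hi, mul_inv_cancel_left]
  obtain ⟨l, hl⟩ := gA_conj_gB i
  have hαI : IsI P π (α ^ l) := IsI.pow ⟨hα, gA, hα'⟩ l
  refine Real.of_comp E hαI (real_of_comm_two E hα hβ hτ hα' hβ' hτ' T C (hL.comp E hαI) (fun v => ?_) fun v => ?_)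
  · show act (α ^ l) (L (act α v)) = act α (act (α ^ l) (L v))
    rw [ha, ← E.act_mul, ← E.act_mul, ← pow_succ, ← pow_succ']
  · show act (α ^ l) (L (act β v)) = act β (act (α ^ l) (L v))
    have h5 : ∀ u, act (β₁ ^ 5) u = u := fun u => by
      obtain ⟨w, rfl⟩ := hL.surj u
      rw [E.act_pow, ← Good.iter hβ₁L, T.b5]
    have heq := E.pow_fix (n := 5) (by norm_num) (g := α ^ l * β₁ * (α ^ l)⁻¹) (k := β)
      (mul_mem (mul_mem hαI.1 hβ₁.1) (inv_mem hαI.1)) hβ
      (by rw [map_mul, map_mul, map_inv, map_pow, hα', hσ, hσ', hβ', ← map_pow, ← map_inv, ← map_mul, ← map_mul, hl])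
      (fun u => by rw [conj_pow, E.act_mul, E.act_mul, h5, E.act_inv])
      (fun u => by rw [E.act_pow, T.b5])
    rw [hβ₁L, ← heq, E.act_mul, E.act_mul, E.act_inv']

/-- Every linear isometry normalising the inner lifts is one of them up to the radical. -/
theorem real_of_good {L : V →+ V} (hL : Good P M act π L) : Real P act π L := by
  obtain ⟨α₁, hα₁, hα₁L⟩ := hL.norm α ⟨hα, gA, hα'⟩
  obtain ⟨σ, hσ⟩ := hα₁.2
  have h11 : ∀ u, act (α₁ ^ 11) u = u := fun u => by
    obtain ⟨w, rfl⟩ := hL.surj u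
    rw [E.act_pow, ← Good.iter hα₁L, T.ea.pow]
  have hσ11 : σ ^ 11 = 1 := by
    have h := E.π_eq_of_act (g := α₁ ^ 11) (k := 1) fun u => by rw [h11, E.act_one]
    rw [map_pow, hσ, ← map_pow, map_one, ← map_one MulAut.conj] at h
    exact conj_inj h
  have hσ1 : σ ≠ 1 := by
    intro e
    obtain ⟨j, hj⟩ := E.ker_cp hα₁.1 (by rw [hσ, e, map_one])
    have hw : ∀ n v, L (M.w^[n] v) = M.w^[n] (L v) := fun n v => by
      induction n with
      | zero => rfl
      | succ n ih => rw [Function.iterate_succ_apply', hL.w, ih, Function.iterate_succ_apply']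
    have h := E.π_eq_of_act (g := α) (k := pc ^ j) fun u => hL.inj (by rw [hα₁L, hj, E.act_p, hw])
    rw [hα', E.π_p, ← map_one MulAut.conj] at h
    exact gA_ne (conj_inj h)
  have : Fact (Nat.Prime 11) := ⟨by norm_num⟩
  have hord : orderOf σ = 11 := orderOf_eq_prime hσ11 hσ1
  have hsyl : ∀ y : M22S, orderOf y = 11 → Nat.card (zpowers y) = 11 ^ (Nat.card M22S).factorization 11 :=
    fun y hy => by rw [Nat.card_zpowers, hy, card_M22S_fact, pow_one]
  obtain ⟨ρ, hρ⟩ := MulAction.exists_smul_eq M22S (Sylow.ofCard _ (hsyl σ hord)) (Sylow.ofCard _ (hsyl gA gA_order))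
  have hmem : ρ * σ * ρ⁻¹ ∈ zpowers gA := by
    have h' : ρ * σ * ρ⁻¹ ∈ ((ρ • Sylow.ofCard (zpowers σ) (hsyl σ hord) : Sylow 11 M22S) : Subgroup M22S) :=
      ⟨σ, mem_zpowers _, rfl⟩
    rw [hρ] at h'
    exact h'
  obtain ⟨k, hk11, hk⟩ : ∃ k, k < 11 ∧ gA ^ k = ρ * σ * ρ⁻¹ := by
    rw [← mem_powers_iff_mem_zpowers, Submonoid.mem_powers_iff] at hmem
    obtain ⟨k, hk⟩ := hmem
    refine ⟨k % 11, Nat.mod_lt _ (by norm_num), ?_⟩
    rw [← pow_eq_pow_mod k gA_pow, hk]
  have hk0 : k ≠ 0 := fun e => by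
    rw [e, pow_zero] at hk
    exact hσ1 (conj_eq_one_iff.1 hk.symm)
  obtain ⟨r, hr, hrπ⟩ := E.exists_lift ρ
  have hrI : IsI P π r := ⟨hr, ρ, hrπ⟩
  set L₁ := (act r).comp L with hL₁def
  have hL₁ : Good P M act π L₁ := hL.comp E hrI
  have hα1 : ∀ v, L₁ (act α v) = act (α ^ k) (L₁ v) := by
    intro v
    have heq := E.pow_fix (n := 11) (by norm_num) (g := r * α₁ * r⁻¹) (k := α ^ k)
      (mul_mem (mul_mem hr hα₁.1) (inv_mem hr)) (pow_mem hα k)
      (by rw [map_mul, map_mul, map_inv, map_pow, hrπ, hσ, hα', ← map_pow, ← map_inv, ← map_mul, ← map_mul, hk])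
      (fun u => by rw [conj_pow, E.act_mul, E.act_mul, h11, E.act_inv])
      (fun u => by rw [← pow_mul, mul_comm, pow_mul, E.act_pow]
                   exact Function.iterate_fixed (by rw [E.act_pow, T.ea.pow]) k)
    show act r (L (act α v)) = act (α ^ k) (act r (L v))
    rw [hα₁L, ← heq, E.act_mul, E.act_mul, E.act_inv']
  obtain ⟨j, -, hj⟩ := sylow_exp k hk11 hk0
  have hba : ∀ (j n : ℕ) u, act (β ^ j) ((act α)^[n] u) = (act α)^[n * 3 ^ j] (act (β ^ j) u) := by
    intro j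
    induction j with
    | zero => intro n u; simp [E.act_one]
    | succ j ih =>
      intro n u
      have h1 : ∀ m u, act β ((act α)^[m] u) = (act α)^[3 * m] (act β u) := by
        intro m
        induction m with
        | zero => intro u; rfl
        | succ m ihm =>
          intro u
          rw [Function.iterate_succ_apply', T.b_a, ihm, ← Function.iterate_add_apply, Nat.mul_succ, Nat.add_comm]
      rw [pow_succ' β, E.act_mul, ih, h1, E.act_mul, show n * 3 ^ (j + 1) = 3 * (n * 3 ^ j) by ring]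
  have hβI : IsI P π (β ^ j) := IsI.pow ⟨hβ, gB, hβ'⟩ j
  set L₂ := (act (β ^ j)).comp L₁ with hL₂def
  have hL₂ : Good P M act π L₂ := hL₁.comp E hβI
  have hα2 : ∀ v, L₂ (act α v) = (act α)^[k * 3 ^ j % 11] (L₂ v) := by
    intro v
    show act (β ^ j) (L₁ (act α v)) = _
    rw [hα1, E.act_pow α k, hba, T.ea.iter_mod]
    rfl
  refine Real.of_comp E hrI (Real.of_comp E hβI ?_)
  rcases hj with e | e <;> rw [e] at hα2
  · exact real_of_comm E hα hβ hτ hα' hβ' hτ' T C hL₂ hα2
  exfalso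
  -- inversion is impossible
  have hP := C.part
  have H := T.ea
  set e0 := comb x 13 1 with he0
  have hit : ∀ i, i < 11 → (act α)^[i] e0 = x i := by
    intro i hi
    rw [he0, show (1 : ℕ) = bitV 0 from rfl, comb_bit, if_pos (by norm_num)]
    induction i with
    | zero => rfl
    | succ i ih =>
      rw [Function.iterate_succ_apply', ih (by omega), hP.a_x i (by omega),
        show xF i = bitV (i + 1) by rw [xF, blt_t (by omega)]; simp [Nat.mod_eq_of_lt hi], comb_bit,
        if_pos (by omega)]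
  have horb : ∀ n, n < 2048 → orb (act α) e0 n = comb x 13 n := fun n hn => by
    have h1 : n.testBit 12 = false := Nat.testBit_lt_two_pow (lt_trans hn (by norm_num))
    have h2 : n.testBit 11 = false := Nat.testBit_lt_two_pow hn
    show _ = comb x 13 n
    simp only [comb, h1, h2, cond_false]
    exact comb_congr 11 n hit
  have B : Base M (act α) e0 (comb x 13 2048) :=
    { whole := by rw [horb _ (by norm_num)]; exact hP.whole
      we := by
        rw [horb _ (by norm_num), he0, hP.act_w]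
        exact hP.eq_of_eqv (by decide +kernel)
      qe := by rw [he0, hP.q]; decide +kernel
      pe := fun d hd1 hd => by
        rw [hit d hd, he0, show x d = comb x 13 (bitV d) by rw [comb_bit, if_pos (by omega)], hP.bm_eq]
        interval_cases d <;> decide +kernel
      fc := by rw [hP.act_a]; exact hP.eq_of_eqv (by decide +kernel)
      qc := by rw [hP.q]; decide +kernel }
  have hneg : ∀ n, L₂ (orb (act α) e0 n) =
      orb (act α) (L₂ e0) (appK (fun i => bitV (10 * i % 11)) 11 n) := by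
    intro n
    rw [orb, orb, map_comb, comb_appK M.two]
    refine comb_congr 11 n fun i hi => ?_
    rw [comb_bit, if_pos (Nat.mod_lt _ (by norm_num)), H.iter_mod]
    clear hi
    induction i with
    | zero => rfl
    | succ i ih => rw [Function.iterate_succ_apply', hα2, ih, ← Function.iterate_add_apply, Nat.mul_succ,
        Nat.add_comm]
  set u := L₂ e0 with hu
  have hu2047 : orb (act α) u 2047 = 0 := by
    have := hneg 2047
    rw [neg_table.1, B.whole, map_zero] at this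
    exact this.symm
  obtain ⟨n, hn, hun⟩ := (B.part H).surj u
  have hlow : n < 2048 := B.low H hn (by rw [hun]; exact hu2047)
  rw [comb_bas _ _ hlow] at hun
  have hwu : M.w u = orb (act α) u 570 := by
    rw [← hun, map_orb (act α) M.w (fun v => (H.w_comm v).symm), B.we, orb_comm H]
  have h1476 := hneg 570
  rw [neg_table.2, ← B.we, hL₂.w, ← hu, hwu] at h1476
  have hone : orb (act α) u 1 = 0 := by
    have h2046 : orb (act α) u 2046 = 0 := by
      rw [show (2046 : ℕ) = 570 ^^^ 1476 by decide, H.orb_xor, h1476, M.two]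
    rw [show (1 : ℕ) = 2046 ^^^ 2047 by decide, H.orb_xor, h2046, hu2047, add_zero]
  rw [orb_one] at hone
  exact B.e_ne H (hL₂.inj (hone.trans (map_zero L₂).symm))

end CfsgLib.J4Type.Ident
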