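import Cfsg.Agent.Lib.J4Type.Ident.Search

/-!
# The three generators in adapted coordinates and the centraliser of their configuration
-/

set_option autoImplicit false
set_option linter.unusedSectionVars false
set_option maxRecDepth 100000

namespace CfsgLib.J4Type.Ident

theorem bound_table : (List.range 11).all (fun i => Nat.blt (coefTab.getD i 0) 1024) = true := by decide +kernel

theorem w2048 : appK wF 13 2048 = 4096 := by decide +kernel

theorem y_one : appK yF 13 1 = 1 := by decide +kernel

variable {V : Type*} [AddCommGroup V]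

/-- Three isometries with the relations of the generators. -/
structure Triple (M : Space V) (a b t : V →+ V) : Prop where
  ea : Eleven M a
  b_w : ∀ v, b (M.w v) = M.w (b v)
  b_q : ∀ v, M.q (b v) = M.q v
  b_a : ∀ v, b (a v) = a^[3] (b v)
  b5 : ∀ v, b^[5] v = v
  t_w : ∀ v, t (M.w v) = M.w (t v)
  t_q : ∀ v, M.q (t v) = M.q v
  t_b : ∀ v, t (b v) = b (b (t v))
  t4 : ∀ v, t^[4] v = v
  word : ∃ k, ∀ v, (fun u => a (a (t u)))^[11] v = M.w^[k] v

/-- Coordinates in which the three isometries are the maps of the bit model. -/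
structure Coords (M : Space V) (a b t : V →+ V) (x : ℕ → V) : Prop where
  part : Part M a x
  b_x : ∀ i, i < 13 → b (x i) = comb x 13 (yF i)
  t_x : ∀ i, i < 13 → t (x i) = comb x 13 (tF i)

variable {M : Space V} {a b t : V →+ V}

theorem Triple.swap (T : Triple M a b t) : Triple M.swap a b t where
  ea := swap_eleven T.ea
  b_w v := by
    show b (M.w (M.w v)) = M.w (M.w (b v))
    rw [T.b_w, T.b_w]
  b_q := T.b_q
  b_a := T.b_a
  b5 := T.b5
  t_w v := by
    show t (M.w (M.w v)) = M.w (M.w (t v))
    rw [T.t_w, T.t_w]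
  t_q := T.t_q
  t_b := T.t_b
  t4 := T.t4
  word := by
    obtain ⟨k, hk⟩ := T.word
    refine ⟨2 * k, fun v => ?_⟩
    rw [hk v]
    have e : ∀ j u, M.swap.w^[j] u = M.w^[2 * j] u := by
      intro j u
      induction j with
      | zero => rfl
      | succ j ih =>
        rw [Function.iterate_succ_apply', ih, show 2 * (j + 1) = 2 * j + 1 + 1 by ring,
          Function.iterate_succ_apply', Function.iterate_succ_apply']
        rfl
    rw [e, show 2 * (2 * k) = 3 * k + k by ring, Function.iterate_add_apply, M.w_iter3]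

theorem b_orb (hb : ∀ v, b (a v) = a^[3] (b v)) (e : V) (H : Eleven M a) (n : ℕ) :
    b (orb a e n) = orb a (b e) (appK yF 11 n) := by
  rw [orb, orb, map_comb, comb_appK M.two]
  refine comb_congr 11 n fun i hi => ?_
  rw [show yF i = bitV ((3 * i) % 11) by rw [yF, blt_t hi]; rfl, comb_bit, if_pos (Nat.mod_lt _ (by norm_num)),
    H.iter_mod]
  clear hi
  induction i with
  | zero => rfl
  | succ i ih => rw [Function.iterate_succ_apply', hb, ih, ← Function.iterate_add_apply, Nat.mul_succ, Nat.add_comm]

/-- The fixed vector is fixed by `b`. -/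
theorem b_fixed (T : Triple M a b t) {e c : V} (B : Base M a e c) : b c = c := by
  have hP := B.part T.ea
  have h3 : a^[3] (b c) = b c := by rw [← T.b_a, B.fc]
  have hfix : a (b c) = b c := by
    have h12 : a^[12] (b c) = b c := by
      rw [show (12 : ℕ) = 3 * 4 from rfl, Function.iterate_mul, Function.iterate_fixed h3]
    conv_rhs => rw [← h12, Function.iterate_succ_apply', T.ea.pow]
  obtain ⟨k, hk, e'⟩ := hP.fixed_cases hfix (by rw [T.b_q, B.qc])
  rw [show comb (bas M a e c) 13 2048 = c by
    rw [show (2048 : ℕ) = bitV 11 from rfl, comb_bit]; rfl] at e'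
  have hi : ∀ j, b^[j] c = M.w^[k * j] c := by
    intro j
    induction j with
    | zero => rfl
    | succ j ih =>
      rw [Function.iterate_succ_apply', ih, Nat.mul_succ, Function.iterate_add_apply, ← e']
      induction k * j with
      | zero => rfl
      | succ n ihn => rw [Function.iterate_succ_apply', T.b_w, ihn, Function.iterate_succ_apply']
  have := M.w_inj (i := 0) (j := k * 5) (B.c_ne T.ea) ((T.b5 c).symm.trans (hi 5))
  have : k = 0 := by omega
  rw [e', this]
  rfl

/-- A base whose moved vector is fixed by `b`. -/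
theorem exists_fixed_base (T : Triple M a b t) {e c : V} (B : Base M a e c) :
    ∃ e', Base M a e' c ∧ b e' = e' := by
  have H := T.ea
  have hP := B.part H
  have hbc := b_fixed T B
  obtain ⟨n, hn, hbe⟩ := hP.surj (b e)
  have hwh : orb a (b e) 2047 = 0 := by
    have := b_orb T.b_a e H 2047
    rwa [B.whole, map_zero, show appK yF 11 2047 = 2047 by decide +kernel, eq_comm] at this
  have hlow : n < 2048 := B.low H hn (by rw [hbe]; exact hwh)
  rw [comb_bas e c hlow] at hbe
  obtain ⟨c0, hc0, hc0', -⟩ := H.reduce e B.whole n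
  rw [hbe] at hc0'
  -- the images of the basis
  have hyC : ∀ i, i < 13 → b (bas M a e c i) = comb (bas M a e c) 13 (yC c0 i) := by
    intro i hi
    by_cases hi' : i < 11
    · have hlt : bitV ((3 * i) % 11) < 2048 ∧ mulV (bitV ((3 * i) % 11)) c0 < 2048 :=
        ⟨by interval_cases i <;> decide, mulV_lt _ (by omega)⟩
      rw [show yC c0 i = mulV (bitV ((3 * i) % 11)) c0 by rw [yC, blt_t hi']; rfl, comb_bas e c hlt.2,
        H.orb_mul e _ (by omega), hc0', bas, if_pos hi']
      have := b_orb T.b_a e H (bitV i)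
      rw [show orb a e (bitV i) = a^[i] e by rw [orb, comb_bit, if_pos hi']] at this
      rw [this, show appK yF 11 (bitV i) = bitV ((3 * i) % 11) by interval_cases i <;> decide +kernel]
    · rw [show yC c0 i = bitV i by rw [yC, blt_f hi']; rfl, comb_bit, if_pos hi]
      simp only [bas, if_neg hi']
      split_ifs
      · exact hbc
      · rw [T.b_w, hbc]
  have hact := act M.two (bas M a e c) b (yC c0) hyC
  have hc0b : comb (bas M a e c) 13 c0 = b e := by rw [comb_bas e c (by omega), hc0']
  have h1 : qm c0 = true := by rw [← hP.q, hc0b, T.b_q, B.qe]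
  have h2 : ∀ k, k < 5 → bm c0 (mulV (bitV ((3 * (k + 1)) % 11)) c0) = true := by
    intro k hk
    have e1 : comb (bas M a e c) 13 (mulV (bitV ((3 * (k + 1)) % 11)) c0) = b (a^[k + 1] e) := by
      rw [show a^[k + 1] e = bas M a e c (k + 1) by rw [bas, if_pos (by omega)], hyC _ (by omega),
        show yC c0 (k + 1) = mulV (bitV ((3 * (k + 1)) % 11)) c0 by rw [yC, blt_t (by omega)]; rfl]
    rw [← hP.bm_eq, hc0b, e1, pB_map b T.b_q, B.pe _ (by omega) (by omega)]
  have h3 : eqv (appK (yC c0) 13 (appK (yC c0) 13 (appK (yC c0) 13 (appK (yC c0) 13 c0)))) 1 = true := by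
    refine hP.eqv_of_eq ?_ (by norm_num) ?_
    · refine appK_lt (N := 13) 13 _ fun i hi => ?_
      unfold yC
      cases hb : Nat.blt i 11
      · exact (gen_lt hi).2.2.2.2
      · exact lt_trans (mulV_lt _ (by omega)) (by norm_num)
    · rw [← hact, ← hact, ← hact, ← hact, hc0b, comb_bas e c (by norm_num), orb_one]
      exact T.b5 e
  have htab := List.all_eq_true.1 y_table c0 (List.mem_range.2 hc0)
  have hall : (List.range 5).all (fun k => bm c0 (mulV (bitV ((3 * (k + 1)) % 11)) c0)) = true :=
    List.all_eq_true.2 fun k hk => h2 k (List.mem_range.1 hk)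
  simp only [h1, hall, h3, Bool.not_true, Bool.false_or, List.any_eq_true, List.mem_range] at htab
  obtain ⟨j, hj, hj'⟩ := htab
  have hbej : b e = a^[j] e := by
    rw [← hc0b, hP.eq_of_eqv hj', comb_bit, if_pos (by omega), bas, if_pos hj]
  refine ⟨a^[5 * j] e, B.shift H (5 * j), ?_⟩
  have hbi : ∀ i u, b (a^[i] u) = a^[3 * i] (b u) := by
    intro i u
    induction i with
    | zero => rfl
    | succ i ih => rw [Function.iterate_succ_apply', T.b_a, ih, ← Function.iterate_add_apply, Nat.mul_succ,
        Nat.add_comm]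
  rw [hbi, hbej, ← Function.iterate_add_apply, ← H.iter_mod (3 * (5 * j) + j), ← H.iter_mod (5 * j),
    show (3 * (5 * j) + j) % 11 = (5 * j) % 11 by omega]

theorem b_basis (T : Triple M a b t) {e c : V} (B : Base M a e c) (hbe : b e = e) :
    ∀ i, i < 13 → b (bas M a e c i) = comb (bas M a e c) 13 (yF i) := by
  intro i hi
  by_cases hi' : i < 11
  · rw [show yF i = bitV ((3 * i) % 11) by rw [yF, blt_t hi']; rfl, comb_bit, if_pos (by omega)]
    simp only [bas, if_pos hi', if_pos (show (3 * i) % 11 < 11 from Nat.mod_lt _ (by norm_num))]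
    have := b_orb T.b_a e T.ea (bitV i)
    rw [show orb a e (bitV i) = a^[i] e by rw [orb, comb_bit, if_pos hi'], hbe] at this
    rw [this, show appK yF 11 (bitV i) = bitV ((3 * i) % 11) by interval_cases i <;> decide +kernel, orb,
      comb_bit, if_pos (Nat.mod_lt _ (by norm_num))]
  · rw [show yF i = bitV i by rw [yF, blt_f hi']; rfl, comb_bit, if_pos hi]
    simp only [bas, if_neg hi']
    split_ifs
    · exact b_fixed T B
    · rw [T.b_w, b_fixed T B]

theorem t_fix (T : Triple M a b t) {v : V} (hv : b v = v) : b (t v) = t v := by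
  have h2 : b (b (t v)) = t v := by rw [← T.t_b, hv]
  have h6 : b^[6] (t v) = t v := by
    show b (b (b (b (b (b (t v)))))) = t v
    rw [h2, h2, h2]
  rwa [Function.iterate_succ_apply', T.b5] at h6

theorem t_orbit (T : Triple M a b t) (u : V) : ∀ j, t (b^[j] u) = b^[2 * j] (t u)
  | 0 => rfl
  | j + 1 => by
    rw [Function.iterate_succ_apply', T.t_b, t_orbit T u j, show 2 * (j + 1) = 2 * j + 1 + 1 by ring,
      Function.iterate_succ_apply', Function.iterate_succ_apply']

/-- The coordinates. -/
theorem exists_coords_of_base (T : Triple M a b t) {e c : V} (B : Base M a e c) :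
    ∃ x, Coords M a b t x := by
  obtain ⟨e, B, hbe⟩ := exists_fixed_base T B
  clear * - T B hbe
  have H := T.ea
  set x := bas M a e c with hx
  have hP : Part M a x := B.part H
  have hby : ∀ i, i < 13 → b (x i) = comb x 13 (yF i) := b_basis T B hbe
  have actb := act M.two x b yF hby
  have hbc := b_fixed T B
  have hb1 : ∀ i, i < 13 → comb x 13 (bitV i) = x i := fun i hi => by rw [comb_bit, if_pos hi]
  have hc : comb x 13 2048 = c := (hb1 11 (by norm_num)).trans rfl
  -- the image of `a e`
  obtain ⟨w0, hw0, hw0'⟩ := hP.surj (t (comb x 13 2))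
  obtain ⟨w, hw, hwc, hwe⟩ : ∃ w, w < 8192 ∧ can w = w ∧ comb x 13 w = t (comb x 13 2) := by
    have ht := List.all_eq_true.1 even_table w0 (List.mem_range.2 hw0)
    simp only [Bool.and_eq_true, Nat.blt_eq] at ht
    exact ⟨can w0, ht.1.2, Nat.eq_of_beq_eq_true ht.1.1, (hP.eq_of_eqv ht.1.1).trans hw0'⟩
  -- the image of `c`
  obtain ⟨u0, hu0, hu0'⟩ := hP.surj (t c)
  obtain ⟨u, hu, huc⟩ : ∃ u, u ∈ fixY ∧ comb x 13 u = t c := by
    have hb0 : b (comb x 13 u0) = comb x 13 u0 := by rw [hu0', t_fix T hbc]
    rw [actb] at hb0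
    have := hP.eqv_of_eq (appK_lt (N := 13) 13 u0 fun i hi => (gen_lt hi).2.1) hu0 hb0
    have ht := List.all_eq_true.1 fixY_table u0 (List.mem_range.2 hu0)
    simp only [this, Bool.not_true, Bool.false_or, List.any_eq_true] at ht
    obtain ⟨v, hv, hv'⟩ := ht
    exact ⟨v, hv, (hP.eq_of_eqv hv').symm.trans hu0'⟩
  have hu13 : u < 8192 := (by decide +kernel : ∀ v ∈ fixY, v < 8192) u hu
  -- the orbit basis
  have horb : ∀ j, j < 10 → t (comb x 13 (orbE j)) = comb x 13 (orbF w j) := by
    intro j hj
    have h5 : ∀ v, b^[2 * (j % 5)] v = b^[2 * j % 5] v := by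
      intro v
      have h15 : ∀ q, b^[5 * q] v = v := by
        intro q
        induction q with
        | zero => rfl
        | succ q ih => rw [Nat.mul_succ, Nat.add_comm, Function.iterate_add_apply, ih, T.b5]
      conv_lhs => rw [show 2 * (j % 5) = 2 * j % 5 + 5 * (2 * (j % 5) / 5) by omega,
        Function.iterate_add_apply, h15]
    have hz1 : b^[j % 5] (comb x 13 2) = comb x 13 (Nat.rec 2 (fun _ v => appK yF 13 v) (j % 5)) :=
      act_rec x b (appK yF 13) actb 2 _
    have hz2 : t (comb x 13 (Nat.rec 2 (fun _ v => appK yF 13 v) (j % 5))) =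
        comb x 13 (Nat.rec w (fun _ v => appK yF 13 v) (2 * j % 5)) := by
      rw [← hz1, t_orbit T, h5, ← hwe, act_rec x b (appK yF 13) actb w]
    unfold orbE orbF
    cases Nat.blt j 5
    · simp only [cond_false]
      rw [← hP.act_w, T.t_w, hz2, hP.act_w]
    · exact hz2
  have htC : ∀ i, i < 13 → t (x i) = comb x 13 (tC w u i) := by
    intro i hi
    by_cases hi' : i < 11
    · have hcoef := List.all_eq_true.1 coef_table i (List.mem_range.2 hi')
      rw [show tC w u i = appK (orbF w) 10 (coefTab.getD i 0) by rw [tC, blt_t hi']; rfl, ← hb1 i hi,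
        ← hP.eq_of_eqv hcoef, comb_appK M.two, comb_appK M.two, map_comb]
      exact comb_congr 10 _ horb
    · obtain rfl | rfl : i = 11 ∨ i = 12 := by omega
      · rw [show tC w u 11 = u from rfl, huc, ← hb1 11 (by norm_num)]
        exact congrArg t hc
      · rw [show tC w u 12 = appK wF 13 u from rfl, ← hP.act_w, huc, ← T.t_w]
        rfl
  have actt := act M.two x t (tC w u) htC
  have horbF_lt : ∀ j, orbF w j < 8192 := by
    intro j
    unfold orbF
    cases Nat.blt j 5
    · exact appK_lt (N := 13) 13 _ fun i hi => (gen_lt hi).2.2.1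
    · exact rec_lt (fun i hi => (gen_lt hi).2.1) hw _
  have htC_lt : ∀ i, i < 13 → tC w u i < 8192 := by
    intro i hi
    unfold tC
    cases Nat.blt i 11
    · cases Nat.beq i 11
      · exact appK_lt (N := 13) 13 _ fun i hi => (gen_lt hi).2.2.1
      · exact hu13
    · exact appK_lt (N := 13) 10 _ fun j _ => horbF_lt j
  -- the filters
  have hgW : goodW w = true := by
    have hq : qm w = true := by
      rw [← hP.q, hwe, T.t_q, hP.q]
      decide +kernel
    simp only [goodW, hq, Bool.true_and, List.all_eq_true, List.mem_range, beq_iff_eq]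
    intro j hj
    rw [← hP.bm_eq, ← hP.bm_eq, hwe, ← horb (j + 1) (by omega), pB_map t T.t_q]
  have hgT : goodT w u = true := by
    have hq : qm u = true := by rw [← hP.q, huc, T.t_q, B.qc]
    have hb : bm u w = false := by
      rw [← hP.bm_eq, huc, hwe, pB_map t T.t_q, ← hc, hP.bm_eq]
      decide +kernel
    have h4 : ∀ n, n < 8192 →
        eqv (appK (tC w u) 13 (appK (tC w u) 13 (appK (tC w u) 13 (appK (tC w u) 13 n)))) n = true := fun n hn => by
      refine hP.eqv_of_eq (appK_lt (N := 13) 13 _ htC_lt) hn ?_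
      rw [← actt, ← actt, ← actt, ← actt]
      exact T.t4 _
    obtain ⟨k, hk⟩ := T.word
    have hg : ∀ v, a (a (t (comb x 13 v))) = comb x 13 (gC w u v) := fun v => by
      rw [actt, hP.act_a, hP.act_a]; rfl
    have hword : ∀ n, n < 8192 → eqv (Nat.rec n (fun _ v => gC w u v) 11)
        (Nat.rec n (fun _ v => appK wF 13 v) (k % 3)) = true := fun n hn => by
      refine hP.eqv_of_eq ?_ (rec_lt (fun i hi => (gen_lt hi).2.2.1) hn _) ?_
      · exact appK_lt (N := 13) 13 _ fun i hi => (gen_lt hi).1
      · rw [← act_rec x (fun v => a (a (t v))) (gC w u) hg n 11, hk, ← M.w_mod k,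
          act_rec x M.w (appK wF 13) hP.act_w n]
    simp only [goodT, hq, hb, h4 2 (by norm_num), h4 2048 (by norm_num), Bool.not_false, Bool.true_and,
      List.any_eq_true, List.mem_range, Bool.and_eq_true]
    exact ⟨k % 3, Nat.mod_lt _ (by norm_num), hword 2048 (by norm_num), hword 2 (by norm_num)⟩
  have htab := List.all_eq_true.1 t_table w (List.mem_range.2 hw)
  have hbw : Nat.beq (can w) w = true := by rw [hwc]; exact Nat.beq_refl w
  simp only [hbw, hgW, Bool.not_true, Bool.false_or, List.all_eq_true] at htab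
  have htab' := htab u hu
  simp only [hgT, Bool.not_true, Bool.false_or, List.any_eq_true, List.all_eq_true, List.mem_range] at htab'
  obtain ⟨k, hk, hk'⟩ := htab'
  have B' := B.scale H k
  refine ⟨bas M a e (M.w^[k] c), B'.part H, b_basis T B' hbe, fun i hi => ?_⟩
  have hnew : ∀ j, j < 13 → bas M a e (M.w^[k] c) j = comb x 13 (dF k j) := by
    intro j hj
    by_cases hj' : j < 11
    · rw [show dF k j = bitV j by rw [dF, blt_t hj']; rfl, hb1 j hj]
      simp only [hx, bas, if_pos hj']
    · rw [show dF k j = Nat.rec (bitV j) (fun _ v => appK wF 13 v) k by rw [dF, blt_f hj']; rfl,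
        ← act_rec x M.w (appK wF 13) hP.act_w (bitV j), hb1 j hj]
      obtain rfl | rfl : j = 11 ∨ j = 12 := by omega
      · rfl
      · show M.w (M.w^[k] c) = M.w^[k] (M.w c)
        exact (Function.iterate_succ_apply' (⇑M.w) k c).symm.trans (Function.iterate_succ_apply (⇑M.w) k c)
  have hlift : ∀ n, comb (bas M a e (M.w^[k] c)) 13 n = comb x 13 (appK (dF k) 13 n) := fun n => by
    rw [comb_appK M.two]; exact comb_congr 13 n hnew
  rw [hnew i hi, actt, hlift, hP.eq_of_eqv (hk' i hi)]

theorem exists_coords (T : Triple M a b t) : ∃ x, Coords M a b t x ∨ Coords M.swap a b t x := by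
  obtain ⟨e, c, B | B⟩ := exists_base T.ea
  · obtain ⟨x, hx⟩ := exists_coords_of_base T B
    exact ⟨x, Or.inl hx⟩
  · obtain ⟨x, hx⟩ := exists_coords_of_base T.swap B
    exact ⟨x, Or.inr hx⟩

/-- An isometry centralising `a` and `b` and compatible with `t` is a scalar. -/
theorem cent_scalar {x : ℕ → V} (C : Coords M a b t x) {g : V →+ V} {i s : ℕ}
    (g_w : ∀ v, g (M.w v) = M.w (g v)) (g_q : ∀ v, M.q (g v) = M.q v) (g_a : ∀ v, g (a v) = a (g v))
    (g_b : ∀ v, g (b v) = b (g v)) (T : Triple M a b t)
    (g_t : ∀ v, g (t v) = t (b^[i] (M.w^[s] (g v)))) :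
    ∃ l, ∀ v, g v = M.w^[l] v := by
  have hP := C.part
  have actb := act M.two x b yF C.b_x
  have actt := act M.two x t tF C.t_x
  have wcomm : ∀ (f : V →+ V), (∀ v, f (M.w v) = M.w (f v)) → ∀ j v, f (M.w^[j] v) = M.w^[j] (f v) := by
    intro f hf j v
    induction j with
    | zero => rfl
    | succ j ih => rw [Function.iterate_succ_apply', hf, ih, Function.iterate_succ_apply']
  set c := comb x 13 2048 with hc
  set e := comb x 13 1 with he
  have hc0 : c ≠ 0 := fun h => by
    rcases (hP.zero 2048 (by norm_num)).1 h with e | e <;> omega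
  have he0 : e ≠ 0 := fun h => by
    rcases (hP.zero 1 (by norm_num)).1 h with e | e <;> omega
  have hac : a c = c := by rw [hc, hP.act_a]; exact hP.eq_of_eqv (by decide +kernel)
  have hbc : b c = c := by rw [hc, actb]; exact hP.eq_of_eqv (by decide +kernel)
  have hbe : b e = e := by rw [he, actb, y_one]
  obtain ⟨m, hm, hgc⟩ := hP.fixed_cases (v := g c) (by rw [← g_a, hac])
    (by rw [g_q, hc, hP.q]; decide +kernel)
  obtain ⟨n0, hn0, hge0⟩ := hP.surj (g e)
  obtain ⟨n, hn, hge⟩ : ∃ n, n ∈ fixY ∧ comb x 13 n = g e := by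
    have hb0 : b (comb x 13 n0) = comb x 13 n0 := by rw [hge0, ← g_b, hbe]
    rw [actb] at hb0
    have := hP.eqv_of_eq (appK_lt (N := 13) 13 n0 fun i hi => (gen_lt hi).2.1) hn0 hb0
    have ht := List.all_eq_true.1 fixY_table n0 (List.mem_range.2 hn0)
    simp only [this, Bool.not_true, Bool.false_or, List.any_eq_true] at ht
    obtain ⟨v, hv, hv'⟩ := ht
    exact ⟨v, hv, (hP.eq_of_eqv hv').symm.trans hge0⟩
  obtain ⟨l, hl, hge'⟩ : ∃ l, l < 3 ∧ g e = M.w^[l] e := by
    have h1 : qm n = true := by rw [← hP.q, hge, g_q, he, hP.q]; decide +kernel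
    have h2 : bm n (Nat.rec 2048 (fun _ v => appK wF 13 v) m) = false := by
      rw [← hP.bm_eq, hge, ← act_rec x M.w _ hP.act_w, ← hgc, pB_map g g_q, he, hc, hP.bm_eq]
      decide +kernel
    have h3 : bm n (Nat.rec 4096 (fun _ v => appK wF 13 v) m) = false := by
      rw [← hP.bm_eq, hge, ← act_rec x M.w _ hP.act_w, ← w2048, ← hP.act_w, ← Function.iterate_succ_apply,
        Function.iterate_succ_apply', ← hgc, ← g_w, pB_map g g_q, he, hc, hP.act_w, hP.bm_eq]
      decide +kernel
    have ht := List.all_eq_true.1 (List.all_eq_true.1 cent_table n hn) m (List.mem_range.2 hm)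
    simp only [h1, h2, h3, Bool.not_true, Bool.false_or, List.any_eq_true, List.mem_range] at ht
    obtain ⟨l, hl, hl'⟩ := ht
    exact ⟨l, hl, by rw [← hge, hP.eq_of_eqv hl', he, act_rec x M.w _ hP.act_w]⟩
  have hbj : ∀ j v, b v = v → b^[j] v = v := fun j v h => Function.iterate_fixed h j
  -- the two images under `t`
  have hte : t e = M.w^[2] c := by
    rw [he, actt, hc, act_rec x M.w _ hP.act_w]
    exact hP.eq_of_eqv (by decide +kernel)
  have htc : t c = M.w^[1] e := by
    rw [hc, actt, he, act_rec x M.w _ hP.act_w]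
    exact hP.eq_of_eqv (by decide +kernel)
  have k1 : M.w^[2 + m] c = M.w^[s + l + 2] c := by
    have := g_t e
    rw [hte, wcomm g g_w, hgc, hge'] at this
    rw [Function.iterate_add_apply]
    refine this.trans ?_
    rw [← Function.iterate_add_apply, hbj i _ (by rw [wcomm b T.b_w, hbe]), wcomm t T.t_w, hte,
      ← Function.iterate_add_apply]
  have k2 : M.w^[1 + l] e = M.w^[s + m + 1] e := by
    have := g_t c
    rw [htc, wcomm g g_w, hge', hgc] at this
    rw [Function.iterate_add_apply]
    refine this.trans ?_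
    rw [← Function.iterate_add_apply, hbj i _ (by rw [wcomm b T.b_w, hbc]), wcomm t T.t_w, htc,
      ← Function.iterate_add_apply]
  have e1 := M.w_inj hc0 k1
  have e2 := M.w_inj he0 k2
  have hml : m % 3 = l % 3 := by omega
  have hgc' : g c = M.w^[l] c := by rw [hgc, ← M.w_mod m, hml, M.w_mod]
  refine ⟨l, fun v => ?_⟩
  obtain ⟨k, -, rfl⟩ := hP.surj v
  rw [map_comb, show M.w^[l] (comb x 13 k) = itHom M.w l (comb x 13 k) from rfl, map_comb]
  refine comb_congr 13 k fun j hj => ?_
  show g (x j) = M.w^[l] (x j)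
  by_cases hj' : j < 11
  · have hxj : x j = a^[j] e := by
      rw [he, act_rec x a (appK xF 13) hP.act_a]
      have hb : comb x 13 (bitV j) = x j := by rw [comb_bit, if_pos hj]
      rw [← hb]
      refine hP.eq_of_eqv ?_
      interval_cases j <;> decide +kernel
    have hga : g (a^[j] e) = a^[j] (g e) := by
      clear hxj hj hj'
      induction j with
      | zero => rfl
      | succ j ih => rw [Function.iterate_succ_apply', g_a, ih, Function.iterate_succ_apply']
    rw [hxj, hga, hge']
    clear hxj hj hj' hga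
    induction j with
    | zero => rfl
    | succ j ih =>
      rw [Function.iterate_succ_apply', ih, Function.iterate_succ_apply']
      exact wcomm a T.ea.w_comm l _
  · obtain rfl | rfl : j = 11 ∨ j = 12 := by omega
    · have hx : x 11 = c := by rw [hc, show (2048 : ℕ) = bitV 11 from rfl, comb_bit]; rfl
      rw [hx, hgc']
    · have hx : x 12 = M.w c := by
        rw [hc, hP.act_w, w2048, show (4096 : ℕ) = bitV 12 from rfl, comb_bit]; rfl
      rw [hx, g_w, hgc', wcomm M.w fun _ => rfl]

end CfsgLib.J4Type.Ident
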