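import Cfsg.Agent.Lib.J4Type.Ident.Basics
import Cfsg.Agent.Lib.J4Type.Ident.Triple

/-!
# The radical modulo its centre as a quadratic space with the action of the centraliser
-/

set_option autoImplicit false
set_option linter.unusedSectionVars false

universe u

namespace CfsgLib.J4Type.Ident

open Cfsg Subgroup
open scoped commutatorElement

variable {G : Type u} [Group G] [Finite G] {z : G}

/-- Conjugation of the radical by an element of the centraliser. -/
def radConj (g : ↥(Cen z)) : ↥(Rad z) →* ↥(Rad z) where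
  toFun x := ⟨(g : G) * x * (g : G)⁻¹, rad_conj g.2 x.2⟩
  map_one' := Subtype.ext (by simp)
  map_mul' x y := Subtype.ext (by simp [mul_assoc])

/-- A quadratic space with a map from the radical and an action of the centraliser. -/
structure Mod (z : G) (p : ↥(Cen z)) {V : Type u} [AddCommGroup V] (M : Space V) (f : ↥(Rad z) → V)
    (act : ↥(Cen z) → (V →+ V)) : Prop where
  f_mul : ∀ x y, f (x * y) = f x + f y
  f_eq_zero : ∀ x : ↥(Rad z), f x = 0 ↔ (x : G) = 1 ∨ (x : G) = z
  f_surj : ∀ v, ∃ x, f x = v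
  f_sq : ∀ x : ↥(Rad z), (x : G) * x = if M.q (f x) then z else 1
  act_f : ∀ g x, act g (f x) = f (radConj g x)
  w_eq : ∀ v, M.w v = act p v

variable {P : Subgroup G} (h : IsOfJankoFourTypeWith z P)
include h

theorem conj_z (g : ↥(Cen z)) : (g : G) * z * (g : G)⁻¹ = z := by
  rw [mem_centralizer_singleton_iff.1 g.2, mul_inv_cancel_right]

theorem exists_mod {p : G} (hpP : p ∈ P) (hp1 : p ≠ 1) (hp3 : p ^ 3 = 1) (hgen : P = zpowers p) :
    ∃ (V : Type u) (_ : AddCommGroup V) (M : Space V) (f : ↥(Rad z) → V) (act : ↥(Cen z) → (V →+ V)),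
      Mod z ⟨p, p_le_cen h hpP⟩ M f act := by
  let Q := ↥(Rad z) ⧸ center ↥(Rad z)
  have hcomm : ∀ a b : Q, a * b = b * a := by
    intro a b
    induction a using QuotientGroup.induction_on with
    | H x =>
      induction b using QuotientGroup.induction_on with
      | H y =>
        rw [← QuotientGroup.mk_mul, ← QuotientGroup.mk_mul, QuotientGroup.eq, ← h.2.1.1.2.2]
        have : (x * y)⁻¹ * (y * x) = ⁅y⁻¹, x⁻¹⁆ := by rw [commutatorElement_def]; group
        rw [this]
        exact commutator_mem_commutator (mem_top _) (mem_top _)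
  letI : CommGroup Q := { (inferInstance : Group Q) with mul_comm := hcomm }
  let f : ↥(Rad z) → Additive Q := fun x => Additive.ofMul (QuotientGroup.mk x : Q)
  have f_mul : ∀ x y, f (x * y) = f x + f y := fun _ _ => rfl
  have hcz : (⟨z, z_mem_rad h⟩ : ↥(Rad z)) ∈ center ↥(Rad z) := mem_center_iff.2 fun y =>
    Subtype.ext (mem_centralizer_singleton_iff.1 (rad_le_cen z y.2))
  have f_zero : ∀ x : ↥(Rad z), f x = 0 ↔ (x : G) = 1 ∨ (x : G) = z := fun x => by
    show (QuotientGroup.mk x : Q) = 1 ↔ _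
    rw [QuotientGroup.eq_one_iff]
    refine ⟨center_rad h, ?_⟩
    rintro (e | e)
    · rw [show x = 1 from Subtype.ext e]; exact one_mem _
    · rw [show x = ⟨z, z_mem_rad h⟩ from Subtype.ext e]; exact hcz
  have f_surj : ∀ v, ∃ x, f x = v := fun v => QuotientGroup.mk_surjective (Additive.toMul v)
  have f_eq : ∀ x y, f x = f y → (y : G) = x ∨ (y : G) = x * z := fun x y e => by
    have h0 : f (x⁻¹ * y) = 0 := by
      rw [f_mul, ← e, ← f_mul, inv_mul_cancel, f_zero]
      exact Or.inl rfl
    rcases (f_zero _).1 h0 with e' | e'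
    · exact Or.inl (inv_mul_eq_one.1 e').symm
    · exact Or.inr (inv_mul_eq_iff_eq_mul.1 e')
  -- signs
  let bz : Bool → G := fun b => if b then z else 1
  have bz_xor : ∀ a b, bz (xor a b) = bz a * bz b := fun a b => by
    cases a <;> cases b <;> simp [bz, z_sq h]
  have bz_inj : ∀ a b, bz a = bz b → a = b := fun a b => by
    cases a <;> cases b <;> simp [bz, z_ne h, Ne.symm (z_ne h)]
  have bz_comm : ∀ a (y : ↥(Rad z)), bz a * y = y * bz a := fun a y => by
    cases a
    · simp [bz]
    · exact (mem_centralizer_singleton_iff.1 (rad_le_cen z y.2)).symm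
  classical
  let q : Additive Q → Bool := fun v => decide (((f_surj v).choose : G) * (f_surj v).choose = z)
  have f_sq : ∀ x : ↥(Rad z), (x : G) * x = bz (q (f x)) := fun x => by
    have hc := f_eq _ _ (f_surj (f x)).choose_spec
    set y := (f_surj (f x)).choose with hy
    have he : (x : G) * x = (y : G) * y := by
      rcases hc with e | e <;> rw [e]
      rw [mul_assoc (y : G) z, ← mul_assoc z, ← mem_centralizer_singleton_iff.1 (rad_le_cen z y.2),
        mul_assoc _ z z, z_sq h, mul_one]
    rw [he]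
    rcases rad_sq h y.2 with e | e
    · rw [e]; simp [bz, q, ← hy, e, Ne.symm (z_ne h)]
    · rw [e]; simp [bz, q, ← hy, e]
  have hβ : ∀ x y : ↥(Rad z), (y : G) * x = x * y * bz (pB q (f x) (f y)) := by
    intro x y
    obtain ⟨c, hc⟩ : ∃ c, (y : G) * x = x * y * bz c := by
      rcases rad_comm h (inv_mem y.2) (inv_mem x.2) with e | e <;>
        rw [inv_inv, inv_inv] at e
      · refine ⟨false, ?_⟩
        simp only [bz, Bool.false_eq_true, if_false, mul_one]
        rw [mul_assoc, ← mul_inv_rev, inv_mul_eq_one] at e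
        exact e.symm
      · refine ⟨true, ?_⟩
        simp only [bz, if_true]
        rw [show (y : G) * x = x * y * ((y : G)⁻¹ * (x : G)⁻¹ * y * x) by group, e]
    have hxy : bz (q (f x + f y)) = bz (xor (q (f x)) (xor (q (f y)) c)) := by
      rw [← f_mul, ← f_sq, bz_xor, bz_xor, ← f_sq, ← f_sq, Subgroup.coe_mul,
        mul_assoc (x : G) y, ← mul_assoc (y : G) x, hc, mul_assoc ((x : G) * y), bz_comm]
      group
    have := bz_inj _ _ hxy
    rw [hc, pB, this]
    congr 2
    cases q (f x) <;> cases q (f y) <;> cases c <;> rfl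
  have bil : ∀ u v w, pB q (u + v) w = xor (pB q u w) (pB q v w) := by
    intro u v w
    obtain ⟨x, rfl⟩ := f_surj u
    obtain ⟨y, rfl⟩ := f_surj v
    obtain ⟨k, rfl⟩ := f_surj w
    refine bz_inj _ _ (mul_left_cancel (a := (x : G) * y * k) ?_)
    rw [← f_mul, bz_xor]
    have h1 := hβ (x * y) k
    rw [Subgroup.coe_mul] at h1
    rw [← h1, ← mul_assoc, hβ x k, mul_assoc _ (bz _), bz_comm, ← mul_assoc, mul_assoc (x : G) (k : G), hβ y k]
    have e : ∀ a b, bz a * bz b = bz b * bz a := fun a b => by rw [← bz_xor, ← bz_xor, Bool.xor_comm]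
    simp only [mul_assoc]
    rw [e]
  have nondeg : ∀ v, v ≠ 0 → ∃ u, pB q v u = true := by
    intro v hv
    by_contra hno
    push Not at hno
    obtain ⟨x, rfl⟩ := f_surj v
    refine hv ((f_zero x).2 (rad_center h x.2 fun y hy => ?_))
    have := hβ x ⟨y, hy⟩
    rw [Bool.eq_false_iff.2 (hno _)] at this
    simpa [bz] using this.symm
  -- the action
  let act : ↥(Cen z) → (Additive Q →+ Additive Q) := fun g =>
    (QuotientGroup.map (center ↥(Rad z)) (center ↥(Rad z)) (radConj g) (fun x hx => by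
      rw [mem_comap, show radConj g x = x from Subtype.ext (by
        show (g : G) * x * (g : G)⁻¹ = x
        rcases center_rad h hx with e | e <;> rw [e]
        · simp
        · exact conj_z h g)]
      exact hx)).toAdditive
  have act_f : ∀ g x, act g (f x) = f (radConj g x) := fun _ _ => rfl
  have q_act : ∀ g v, q (act g v) = q v := fun g v => by
    obtain ⟨x, rfl⟩ := f_surj v
    refine bz_inj _ _ ?_
    rw [act_f, ← f_sq, ← f_sq]
    show (g : G) * x * (g : G)⁻¹ * ((g : G) * x * (g : G)⁻¹) = _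
    rw [show (g : G) * x * (g : G)⁻¹ * ((g : G) * x * (g : G)⁻¹) = (g : G) * ((x : G) * x) * (g : G)⁻¹ by group]
    rcases rad_sq h x.2 with e | e <;> rw [e]
    · simp
    · exact conj_z h g
  set pc : ↥(Cen z) := ⟨p, p_le_cen h hpP⟩ with hpc
  have two : ∀ v : Additive Q, v + v = 0 := fun v => by
    obtain ⟨x, rfl⟩ := f_surj v
    rw [← f_mul, f_zero]
    exact rad_sq h x.2
  have w3 : ∀ v, act pc (act pc (act pc v)) = v := fun v => by
    obtain ⟨x, rfl⟩ := f_surj v
    rw [act_f, act_f, act_f]
    refine congrArg f (Subtype.ext ?_)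
    show p * (p * (p * x * p⁻¹) * p⁻¹) * p⁻¹ = x
    rw [show p * (p * (p * (x : G) * p⁻¹) * p⁻¹) * p⁻¹ = p ^ 3 * x * (p ^ 3)⁻¹ by rw [pow_succ, pow_two]; group, hp3]
    simp
  have fixed : ∀ v, act pc v = v → v = 0 := fun v hv => by
    obtain ⟨x, rfl⟩ := f_surj v
    rw [act_f] at hv
    have hpz : p * z = z * p := (mem_centralizer_singleton_iff.1 pc.2)
    have hfix : p * (x : G) * p⁻¹ = x := by
      rcases f_eq _ _ hv with e | e
      · exact e.symm
      · exfalso
        replace e : (x : G) = p * x * p⁻¹ * z := e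
        have key : p * (x : G) * p⁻¹ = x * z := by
          conv_rhs => rw [e, mul_assoc, z_sq h, mul_one]
        have h3 : p ^ 3 * (x : G) * (p ^ 3)⁻¹ = x * z := by
          have hz1 : p * z * p⁻¹ = z := by rw [hpz, mul_inv_cancel_right]
          have s2 : p * (p * (x : G) * p⁻¹) * p⁻¹ = x := by
            rw [key, show p * ((x : G) * z) * p⁻¹ = (p * x * p⁻¹) * (p * z * p⁻¹) by group, key, hz1, mul_assoc,
              z_sq h, mul_one]
          rw [show p ^ 3 * (x : G) * (p ^ 3)⁻¹ = p * (p * (p * x * p⁻¹) * p⁻¹) * p⁻¹ by rw [pow_succ, pow_two]; group, s2, key]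
        rw [hp3] at h3
        exact z_ne h (by simpa using h3)
    refine (f_zero x).2 (rad_fixed h x.2 ?_)
    rw [mem_centralizer_iff]
    intro y hy
    rw [hgen] at hy
    obtain ⟨j, rfl⟩ := hy
    exact ((show Commute p (x : G) from mul_inv_eq_iff_eq_mul.1 hfix).zpow_left j).eq
  have hcard : Nat.card (Additive Q) = 4096 := by
    have h1 := Subgroup.card_eq_card_quotient_mul_card_subgroup (center ↥(Rad z))
    rw [h.2.2.1, h.2.1.2] at h1
    have : Nat.card (Additive Q) = Nat.card (↥(Rad z) ⧸ center ↥(Rad z)) := rfl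
    omega
  refine ⟨Additive Q, inferInstance, ⟨hcard, two, act pc, fun v => ?_, q, bil, nondeg, q_act pc⟩, f, act,
    ⟨f_mul, f_zero, f_surj, fun x => ?_, act_f, fun _ => rfl⟩⟩
  · refine fixed _ ?_
    rw [map_add, map_add, w3]
    abel
  · exact f_sq x

end CfsgLib.J4Type.Ident
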