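import Cfsg.Agent.Lib.J4Type.Ident.Space

/-!
# Coordinates for three isometries with the relations of the generators of the triple cover of `M22`

Three linear isometries `a`, `b`, `t` commuting with the scalar, with `a` of order eleven, `b` raising `a` to the
third power, `t` squaring `b`, are in a suitable basis the maps `xF`, `yF`, `tF` of the bit model.
-/

set_option autoImplicit false
set_option linter.unusedSectionVars false
set_option maxRecDepth 100000

namespace CfsgLib.J4Type.Ident

theorem root_table : (List.range 1024).all (fun r =>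
    !eqv (mulV r r) (Nat.xor r 1) || Nat.beq r 570 || Nat.beq r 571) = true := by
  decide +kernel

theorem zero_table : (List.range 8192).all (fun n =>
    (!Nat.beq (can n) 0 || Nat.beq n 0 || Nat.beq n 2047) && Nat.beq (can (Nat.xor n 2047)) (can n)) = true := by
  decide +kernel

theorem embed_table : (List.range 4096).all (fun k =>
    Nat.blt (k % 1024 + 2048 * (k / 1024)) 8192 && !(k % 1024 + 2048 * (k / 1024)).testBit 10) = true := by
  decide +kernel

theorem wF_rot : (List.range 11).all (fun i => Nat.beq (rot i (570 % 2048)) (wF i)) = true := by decide +kernel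

theorem gen_lt_table : (List.range 13).all (fun i =>
    Nat.blt (xF i) 8192 && Nat.blt (yF i) 8192 && Nat.blt (wF i) 8192 && Nat.blt (tF i) 8192 &&
    Nat.blt (bitV i) 8192) = true := by
  decide +kernel

theorem orb_lt_table : (List.range 10).all (fun j => Nat.blt (orbE j) 8192) = true := by decide +kernel

theorem fixA_table : (List.range 8192).all (fun n => !eqv (appK xF 13 n) n || eqv n 0 ||
    (List.range 3).any (fun k => eqv n (Nat.rec 2048 (fun _ v => appK wF 13 v) k))) = true := by
  decide +kernel

theorem cent_table : fixY.all (fun n => (List.range 3).all (fun k => !qm n ||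
    bm n (Nat.rec 2048 (fun _ v => appK wF 13 v) k) || bm n (Nat.rec 4096 (fun _ v => appK wF 13 v) k) ||
    (List.range 3).any (fun l => eqv n (Nat.rec 1 (fun _ v => appK wF 13 v) l)))) = true := by
  decide +kernel

theorem six_bits (b0 b1 b2 b3 b4 b5 : Bool) : ∃ m, m < 64 ∧ m.testBit 0 = b0 ∧ m.testBit 1 = b1 ∧
    m.testBit 2 = b2 ∧ m.testBit 3 = b3 ∧ m.testBit 4 = b4 ∧ m.testBit 5 = b5 :=
  ⟨b0.toNat + 2 * b1.toNat + 4 * b2.toNat + 8 * b3.toNat + 16 * b4.toNat + 32 * b5.toNat, by
    cases b0 <;> cases b1 <;> cases b2 <;> cases b3 <;> cases b4 <;> cases b5 <;> decide⟩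

theorem shr_le (d k : ℕ) : Nat.shiftRight d k ≤ d :=
  (Nat.shiftRight_eq_div_pow d k).trans_le (Nat.div_le_self _ _)

theorem blt_t {i j : ℕ} (h : i < j) : Nat.blt i j = true := by rw [Nat.blt_eq]; exact h

theorem blt_f {i j : ℕ} (h : ¬ i < j) : Nat.blt i j = false :=
  Bool.eq_false_iff.2 fun e => h (by rwa [Nat.blt_eq] at e)

theorem appK_lt {f : ℕ → ℕ} {N : ℕ} : ∀ (k n : ℕ), (∀ i, i < k → f i < 2 ^ N) → appK f k n < 2 ^ N
  | 0, _, _ => Nat.two_pow_pos N
  | k + 1, n, h => by
    simp only [appK]
    have h1 := appK_lt k n fun i hi => h i (Nat.lt_succ_of_lt hi)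
    cases n.testBit k
    · exact h1
    · exact Nat.xor_lt_two_pow (h k (Nat.lt_succ_self k)) h1

theorem gen_lt {i : ℕ} (hi : i < 13) :
    xF i < 8192 ∧ yF i < 8192 ∧ wF i < 8192 ∧ tF i < 8192 ∧ bitV i < 8192 := by
  have h := List.all_eq_true.1 gen_lt_table i (List.mem_range.2 hi)
  simp only [Bool.and_eq_true, Nat.blt_eq] at h
  exact ⟨h.1.1.1.1, h.1.1.1.2, h.1.1.2, h.1.2, h.2⟩

theorem mulV_lt {d : ℕ} (n : ℕ) (hd : d < 2048) : mulV n d < 2048 := by
  refine appK_lt (N := 11) 11 n fun i _ => ?_
  refine Nat.xor_lt_two_pow (lt_of_le_of_lt Nat.and_le_right (by norm_num)) ?_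
  exact lt_of_le_of_lt (shr_le _ _) hd

theorem rec_lt {g : ℕ → ℕ} (hg : ∀ i, i < 13 → g i < 8192) {n : ℕ} (hn : n < 8192) :
    ∀ k, (Nat.rec n (fun _ v => appK g 13 v) k : ℕ) < 8192
  | 0 => hn
  | _ + 1 => appK_lt (N := 13) 13 _ hg

variable {V : Type*} [AddCommGroup V] {M : Space V}

theorem pB_map {q : V → Bool} (f : V →+ V) (hf : ∀ v, q (f v) = q v) (u v : V) :
    pB q (f u) (f v) = pB q u v := by
  simp only [pB, ← map_add, hf]

theorem iter_iso {f : V →+ V} (hw : ∀ v, f (M.w v) = M.w (f v)) (hq : ∀ v, M.q (f v) = M.q v) (i : ℕ) :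
    (∀ v, f^[i] (M.w v) = M.w (f^[i] v)) ∧ ∀ v, M.q (f^[i] v) = M.q v := by
  induction i with
  | zero => exact ⟨fun _ => rfl, fun _ => rfl⟩
  | succ i ih =>
    exact ⟨fun v => by rw [Function.iterate_succ_apply', Function.iterate_succ_apply', ih.1, hw],
      fun v => by rw [Function.iterate_succ_apply', hq, ih.2]⟩

theorem Space.w_ne (M : Space V) {v : V} (hv : v ≠ 0) : M.w v ≠ 0 ∧ M.w v ≠ v := by
  constructor
  · intro h
    exact hv (by rw [← M.w3 v, h, map_zero, map_zero])
  · intro h
    have := M.w_rel v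
    rw [h, h, M.two, zero_add] at this
    exact hv this

theorem Space.w_iter3 (M : Space V) (k : ℕ) (v : V) : M.w^[3 * k] v = v := by
  induction k with
  | zero => rfl
  | succ k ih =>
    rw [show 3 * (k + 1) = (3 * k + 2) + 1 by ring, Function.iterate_succ_apply',
      Function.iterate_succ_apply', Function.iterate_succ_apply', ih, M.w3]

theorem Space.w_mod (M : Space V) (k : ℕ) (v : V) : M.w^[k % 3] v = M.w^[k] v := by
  conv_rhs => rw [← Nat.mod_add_div k 3, Function.iterate_add_apply, M.w_iter3]

theorem Space.w_inj (M : Space V) {v : V} (hv : v ≠ 0) {i j : ℕ} (h : M.w^[i] v = M.w^[j] v) :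
    i % 3 = j % 3 := by
  rw [← M.w_mod i, ← M.w_mod j] at h
  have key : ∀ k, k < 3 → M.w^[k] v = v → k = 0 := by
    intro k hk he
    interval_cases k
    · rfl
    · exact absurd he (M.w_ne hv).2
    · exfalso
      refine (M.w_ne hv).2 ?_
      have h3 := M.w3 v
      rwa [show M.w (M.w v) = v from he] at h3
  have hi : i % 3 < 3 := Nat.mod_lt _ (by norm_num)
  have hj : j % 3 < 3 := Nat.mod_lt _ (by norm_num)
  rcases le_total (i % 3) (j % 3) with hle | hle
  · have := congrArg (M.w^[3 - i % 3]) h
    rw [← Function.iterate_add_apply, ← Function.iterate_add_apply, show 3 - i % 3 + i % 3 = 3 * 1 by omega,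
      M.w_iter3, show 3 - i % 3 + j % 3 = 3 * 1 + (j % 3 - i % 3) by omega, Function.iterate_add_apply,
      M.w_iter3] at this
    have := key _ (by omega) this.symm
    omega
  · have := congrArg (M.w^[3 - j % 3]) h
    rw [← Function.iterate_add_apply, ← Function.iterate_add_apply, show 3 - j % 3 + j % 3 = 3 * 1 by omega,
      M.w_iter3, show 3 - j % 3 + i % 3 = 3 * 1 + (i % 3 - j % 3) by omega, Function.iterate_add_apply,
      M.w_iter3] at this
    have := key _ (by omega) this
    omega

/-- Coordinates adapted to an element of order eleven. -/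
structure Part (M : Space V) (a : V →+ V) (x : ℕ → V) : Prop where
  zero : ∀ n, n < 8192 → (comb x 13 n = 0 ↔ n = 0 ∨ n = 2047)
  q : ∀ n, M.q (comb x 13 n) = qm n
  a_x : ∀ i, i < 13 → a (x i) = comb x 13 (xF i)
  w_x : ∀ i, i < 13 → M.w (x i) = comb x 13 (wF i)

theorem act (two : ∀ v : V, v + v = 0) (x : ℕ → V) (f : V →+ V) (g : ℕ → ℕ)
    (h : ∀ i, i < 13 → f (x i) = comb x 13 (g i)) (n : ℕ) :
    f (comb x 13 n) = comb x 13 (appK g 13 n) := by
  rw [map_comb, comb_appK two]
  exact comb_congr 13 n h

theorem act_rec (x : ℕ → V) (f : V → V) (g : ℕ → ℕ) (h : ∀ n, f (comb x 13 n) = comb x 13 (g n)) (n : ℕ) :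
    ∀ k, f^[k] (comb x 13 n) = comb x 13 (Nat.rec n (fun _ v => g v) k)
  | 0 => rfl
  | k + 1 => by rw [Function.iterate_succ_apply', act_rec x f g h n k, h]

namespace Part

variable {a : V →+ V} {x : ℕ → V} (P : Part M a x)
include P

theorem xor (n m : ℕ) : comb x 13 (n ^^^ m) = comb x 13 n + comb x 13 m := comb_xor M.two x 13 n m

theorem act_a (n : ℕ) : a (comb x 13 n) = comb x 13 (appK xF 13 n) := act M.two x a xF P.a_x n

theorem act_w (n : ℕ) : M.w (comb x 13 n) = comb x 13 (appK wF 13 n) := act M.two x M.w wF P.w_x n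

theorem whole : comb x 13 2047 = 0 := (P.zero 2047 (by norm_num)).2 (Or.inr rfl)

theorem eq_of_eqv {n m : ℕ} (h : eqv n m = true) : comb x 13 n = comb x 13 m := by
  have hc : ∀ k, comb x 13 (can k) = comb x 13 k := fun k => by
    simp only [can]
    cases parK (fun _ => true) 11 k
    · rfl
    · show comb x 13 (k ^^^ 2047) = _
      rw [P.xor, P.whole, add_zero]
  rw [← hc n, Nat.eq_of_beq_eq_true h, hc]

theorem eqv_of_eq {n m : ℕ} (hn : n < 8192) (hm : m < 8192) (h : comb x 13 n = comb x 13 m) :
    eqv n m = true := by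
  have hlt : n ^^^ m < 8192 := Nat.xor_lt_two_pow (n := 13) hn hm
  have h0 : comb x 13 (n ^^^ m) = 0 := by rw [P.xor, h, M.two]
  rcases (P.zero _ hlt).1 h0 with e | e
  · have : n = m := by rw [← Nat.xor_zero n, ← Nat.xor_self m, ← Nat.xor_assoc, e, Nat.zero_xor]
    rw [this]
    exact Nat.beq_refl _
  · have : n = m ^^^ 2047 := by
      rw [← e, Nat.xor_comm n m, ← Nat.xor_assoc, Nat.xor_self, Nat.zero_xor]
    have ht := List.all_eq_true.1 zero_table m (List.mem_range.2 hm)
    simp only [Bool.and_eq_true] at ht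
    rw [this]
    exact ht.2

theorem surj (v : V) : ∃ n, n < 8192 ∧ comb x 13 n = v := by
  have : Finite V := Nat.finite_of_card_ne_zero (by rw [M.card]; norm_num)
  let f : Fin 4096 → V := fun k => comb x 13 (k % 1024 + 2048 * (k / 1024))
  have hb : ∀ k : Fin 4096, (k : ℕ) % 1024 + 2048 * ((k : ℕ) / 1024) < 8192 ∧
      ((k : ℕ) % 1024 + 2048 * ((k : ℕ) / 1024)).testBit 10 = false := fun k => by
    have := List.all_eq_true.1 embed_table k (List.mem_range.2 k.2)
    simpa only [Bool.and_eq_true, Nat.blt_eq, Bool.not_eq_true'] using this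
  have hinj : Function.Injective f := by
    intro k l h
    have h0 : comb x 13 (((k : ℕ) % 1024 + 2048 * ((k : ℕ) / 1024)) ^^^ ((l : ℕ) % 1024 + 2048 * ((l : ℕ) / 1024))) = 0 := by
      rw [P.xor]
      exact (add_eq_zero_iff_eq M.two).2 h
    rcases (P.zero _ (Nat.xor_lt_two_pow (n := 13) (hb k).1 (hb l).1)).1 h0 with e | e
    · have : (k : ℕ) % 1024 + 2048 * ((k : ℕ) / 1024) = (l : ℕ) % 1024 + 2048 * ((l : ℕ) / 1024) := by
        rw [← Nat.xor_zero ((k : ℕ) % 1024 + _), ← Nat.xor_self ((l : ℕ) % 1024 + 2048 * ((l : ℕ) / 1024)),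
          ← Nat.xor_assoc, e, Nat.zero_xor]
      exact Fin.ext (by omega)
    · have := congrArg (fun n => n.testBit 10) e
      simp only [Nat.testBit_xor, (hb k).2, (hb l).2] at this
      exact absurd this (by decide)
  obtain ⟨k, hk⟩ := ((Nat.bijective_iff_injective_and_card f).2 ⟨hinj, by rw [Nat.card_fin, M.card]⟩).2 v
  exact ⟨_, (hb k).1, hk⟩

theorem bm_eq (n m : ℕ) : pB M.q (comb x 13 n) (comb x 13 m) = bm n m := by
  rw [pB, ← P.xor, P.q, P.q, P.q]
  rfl

theorem fixed_cases {v : V} (hv : a v = v) (hq : M.q v = true) :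
    ∃ k, k < 3 ∧ v = M.w^[k] (comb x 13 2048) := by
  obtain ⟨n, hn, rfl⟩ := P.surj v
  rw [P.act_a] at hv
  have he := P.eqv_of_eq (appK_lt (N := 13) 13 n fun i hi => (gen_lt hi).1) hn hv
  have h := List.all_eq_true.1 fixA_table n (List.mem_range.2 hn)
  simp only [he, Bool.not_true, Bool.false_or, Bool.or_eq_true, List.any_eq_true, List.mem_range] at h
  rcases h with h | ⟨k, hk, h⟩
  · rw [P.eq_of_eqv h, P.q] at hq
    exact absurd hq (by decide +kernel)
  · exact ⟨k, hk, by rw [act_rec x M.w _ P.act_w, P.eq_of_eqv h]⟩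

end Part

/-- A normalised moved vector and fixed vector. -/
structure Base (M : Space V) (a : V →+ V) (e c : V) : Prop where
  whole : orb a e 2047 = 0
  we : M.w e = orb a e 570
  qe : M.q e = true
  pe : ∀ d, 1 ≤ d → d < 11 → pB M.q e (a^[d] e) = true
  fc : a c = c
  qc : M.q c = true

/-- The basis attached to two vectors. -/
def bas (M : Space V) (a : V →+ V) (e c : V) (i : ℕ) : V :=
  if i < 11 then a^[i] e else if i = 11 then c else M.w c

theorem comb_bas_low {a : V →+ V} (e c : V) (n : ℕ) : comb (bas M a e c) 11 n = orb a e n :=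
  comb_congr 11 n fun i hi => by simp [bas, hi]

theorem comb_bas {a : V →+ V} (e c : V) {n : ℕ} (hn : n < 2048) : comb (bas M a e c) 13 n = orb a e n := by
  have h1 : n.testBit 12 = false := Nat.testBit_lt_two_pow (lt_trans hn (by norm_num))
  have h2 : n.testBit 11 = false := Nat.testBit_lt_two_pow hn
  simp only [comb, h1, h2, cond_false]
  exact comb_bas_low e c n

theorem q_zero' (M : Space V) : M.q 0 = false := q_zero M.q M.bil

variable {a : V →+ V} (H : Eleven M a)
include H

theorem pB_shift (e : V) {i j : ℕ} : pB M.q (a^[i] e) (a^[i + j] e) = pB M.q e (a^[j] e) := by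
  rw [Function.iterate_add_apply]
  exact pB_map (itHom a i) (iter_iso H.w_comm H.q_inv i).2 _ _

theorem pB_fixed {u e : V} (hu : a u = u) (he : orb a e 2047 = 0) : pB M.q e u = false := by
  have h : pB M.q (orb a e 2047) u = false := by rw [he]; exact pB_zero M.q M.bil u
  rw [orb, pB_comb M.q M.bil, parK_congr 11 2047 (g := fun _ => pB M.q e u) fun i _ => by
    conv_lhs => rw [← Function.iterate_fixed hu i]
    exact pB_map (itHom a i) (iter_iso H.w_comm H.q_inv i).2 _ _] at h
  revert h
  cases pB M.q e u <;> decide +kernel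

theorem orb_comm (e : V) (n m : ℕ) : orb a (orb a e n) m = orb a (orb a e m) n := by
  have hadd : ∀ u v : V, orb a (u + v) m = orb a u m + orb a v m := fun u v => by
    simp only [orb]
    induction (11 : ℕ) with
    | zero => exact (add_zero 0).symm
    | succ k ih =>
      simp only [comb]
      cases m.testBit k
      · exact ih
      · simp only [cond_true]
        rw [ih]
        simp only [iter_add]
        abel
  let f : V →+ V := { toFun := fun v => orb a v m, map_zero' := orb_zero_left a _, map_add' := hadd }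
  exact map_orb a f (fun v => (map_orb a a (fun _ => rfl) v m).symm) e n

namespace Base

variable {e c : V} (B : Base M a e c)
include B

theorem c_ne : c ≠ 0 := fun h => by
  have := B.qc
  rw [h, q_zero'] at this
  exact Bool.false_ne_true this

theorem e_ne : e ≠ 0 := fun h => by
  have := B.qe
  rw [h, q_zero'] at this
  exact Bool.false_ne_true this

theorem low {n : ℕ} (hn : n < 8192) (h : orb a (comb (bas M a e c) 13 n) 2047 = 0) : n < 2048 := by
  have e13 : comb (bas M a e c) 13 n = (bif n.testBit 12 then M.w c else 0) +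
      ((bif n.testBit 11 then c else 0) + orb a e n) := by
    simp only [comb]
    rw [← comb_bas_low (M := M) e c n]
    cases n.testBit 12 <;> cases n.testBit 11 <;> simp [comb, bas]
  set u := (bif n.testBit 12 then M.w c else 0) + (bif n.testBit 11 then c else 0) with hu
  have hfix : a u = u := by
    rw [hu, map_add]
    cases n.testBit 12 <;> cases n.testBit 11 <;> simp [H.w_comm, B.fc]
  have hadd : ∀ u v : V, orb a (u + v) 2047 = orb a u 2047 + orb a v 2047 := fun u v => by
    simp only [orb]
    induction (11 : ℕ) with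
    | zero => exact (add_zero 0).symm
    | succ k ih =>
      simp only [comb]
      cases (2047 : ℕ).testBit k
      · exact ih
      · simp only [cond_true]
        rw [ih]
        simp only [iter_add]
        abel
  rw [e13, ← add_assoc, ← hu, hadd, H.whole_fixed hfix, H.whole_orb e n B.whole, add_zero] at h
  have hne := M.w_ne (B.c_ne H)
  have h11 : n.testBit 11 = false ∧ n.testBit 12 = false := by
    revert hu
    cases n.testBit 11 <;> cases n.testBit 12 <;> intro hu <;> first
      | exact ⟨rfl, rfl⟩
      | (exfalso; rw [hu] at h; simp only [cond_true, cond_false, zero_add, add_zero] at h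
         first
           | exact B.c_ne H h
           | exact hne.1 h
           | exact hne.2 ((add_eq_zero_iff_eq M.two).1 h))
  refine Nat.lt_pow_two_of_testBit (n := 11) n fun i hi => ?_
  by_cases h13 : 13 ≤ i
  · exact Nat.testBit_lt_two_pow (lt_of_lt_of_le hn (Nat.pow_le_pow_right (by norm_num) h13 : 2 ^ 13 ≤ 2 ^ i))
  · obtain rfl | rfl : i = 11 ∨ i = 12 := by omega
    · exact h11.1
    · exact h11.2

theorem part : Part M a (bas M a e c) where
  zero n hn := by
    refine ⟨fun h => ?_, fun h => ?_⟩
    · have hlow := B.low H hn (by rw [h]; exact orb_zero_left a _)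
      rw [comb_bas e c hlow] at h
      obtain ⟨m, hm, hm', hcan⟩ := H.reduce e B.whole n
      have h0 := hcan (H.indep e B.whole (B.e_ne H) hm (hm'.trans h))
      rw [Nat.mod_eq_of_lt hlow] at h0
      have ht := List.all_eq_true.1 zero_table n (List.mem_range.2 hn)
      simp only [Bool.and_eq_true, Bool.or_eq_true, Bool.not_eq_true', h0] at ht
      rcases ht.1 with (h' | h') | h'
      · exact absurd h' (by decide)
      · exact Or.inl (Nat.eq_of_beq_eq_true h')
      · exact Or.inr (Nat.eq_of_beq_eq_true h')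
    · rcases h with rfl | rfl
      · exact comb_zero _ 13
      · rw [comb_bas e c (by norm_num)]
        exact B.whole
  q n := by
    rw [q_comb M.q M.bil]
    refine qevK_congr 13 n (fun i hi => ?_) fun i j hj hi => ?_
    · unfold bas
      split_ifs
      · rw [(iter_iso H.w_comm H.q_inv i).2, B.qe]
      · exact B.qc
      · rw [M.q_w, B.qc]
    · unfold bas
      by_cases hi' : i < 11
      · rw [if_pos hi', if_pos (lt_trans hj hi'), show a^[i] e = a^[j + (i - j)] e by rw [show j + (i - j) = i by omega],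
          pB_shift H, B.pe _ (by omega) (by omega)]
        have h1 : Nat.blt i 11 = true := blt_t hi'
        have h2 : Nat.blt j 11 = true := blt_t (lt_trans hj hi')
        have h3 : Nat.beq i j = false := Bool.eq_false_iff.2 fun h => by have := Nat.eq_of_beq_eq_true h; omega
        simp [bStd, h1, h2, h3]
      · by_cases hj' : j < 11
        · rw [if_neg hi', if_pos hj']
          have hfix : a (if i = 11 then c else M.w c) = (if i = 11 then c else M.w c) := by
            split_ifs
            · exact B.fc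
            · rw [H.w_comm, B.fc]
          have hz : orb a (a^[j] e) 2047 = 0 := by
            show orb a (itHom a j e) 2047 = 0
            rw [← map_orb a (itHom a j) (fun v => (Function.iterate_succ_apply a j v).symm.trans
              (Function.iterate_succ_apply' a j v)) e 2047, B.whole, map_zero]
          rw [pB_fixed H hfix hz]
          have h1 : Nat.blt i 11 = false := blt_f hi'
          have h2 : Nat.blt j 11 = true := blt_t hj'
          simp [bStd, h1, h2]
        · obtain ⟨rfl, rfl⟩ : i = 12 ∧ j = 11 := by omega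
          rw [if_neg hi', if_neg hj', if_pos rfl, if_neg (by norm_num)]
          have hqc := B.qc
          have h3 : M.q (c + M.w c) = true := by
            rw [show c + M.w c = M.w (M.w c) from ((add_eq_zero_iff_eq M.two).1 (by
              rw [add_comm c, ← add_assoc]; exact M.w_rel c)).symm, M.q_w, M.q_w, hqc]
          rw [pB, h3, M.q_w, hqc]
          decide +kernel
  a_x i hi := by
    unfold bas
    by_cases hi' : i < 11
    · rw [if_pos hi', show xF i = bitV ((i + 1) % 11) by rw [xF, blt_t hi']; rfl, comb_bit,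
        if_pos (by omega)]
      show a (a^[i] e) = bas M a e c ((i + 1) % 11)
      rw [bas, if_pos (Nat.mod_lt _ (by norm_num)), H.iter_mod, Function.iterate_succ_apply']
    · have hx : xF i = bitV i := by
        rw [xF, show Nat.blt i 11 = false from blt_f hi']; rfl
      rw [hx, comb_bit, if_pos hi]
      simp only [bas, if_neg hi']
      split_ifs
      · exact B.fc
      · rw [H.w_comm, B.fc]
  w_x i hi := by
    by_cases hi' : i < 11
    · have ht := Nat.eq_of_beq_eq_true (List.all_eq_true.1 wF_rot i (List.mem_range.2 hi'))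
      have hlt : wF i < 2048 := by
        rw [← ht]
        exact Nat.xor_lt_two_pow (n := 11) (lt_of_le_of_lt Nat.and_le_right (by norm_num))
          (lt_of_le_of_lt (shr_le _ _) (Nat.mod_lt _ (by norm_num)))
      rw [comb_bas e c hlt, bas, if_pos hi', ← (iter_iso H.w_comm H.q_inv i).1, B.we, ← ht, H.orb_rot e hi' 570]
    · obtain rfl | rfl : i = 11 ∨ i = 12 := by omega
      · rw [show wF 11 = bitV 12 from rfl, comb_bit]
        rfl
      · rw [show wF 12 = bitV 11 ^^^ bitV 12 from rfl, comb_xor M.two, comb_bit, comb_bit]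
        show M.w (M.w c) = c + M.w c
        exact (add_eq_zero_iff_eq M.two).1 (by rw [add_comm c, ← add_assoc]; exact M.w_rel c)

theorem shift (i : ℕ) : Base M a (a^[i] e) c where
  whole := by
    show orb a (itHom a i e) 2047 = 0
    rw [← map_orb a (itHom a i) (fun v => (Function.iterate_succ_apply a i v).symm.trans
      (Function.iterate_succ_apply' a i v)) e 2047, B.whole, map_zero]
  we := by
    rw [← (iter_iso H.w_comm H.q_inv i).1, B.we]
    exact map_orb a (itHom a i) (fun v => (Function.iterate_succ_apply a i v).symm.trans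
      (Function.iterate_succ_apply' a i v)) e 570
  qe := by rw [(iter_iso H.w_comm H.q_inv i).2, B.qe]
  pe d h1 h2 := by
    rw [← Function.iterate_add_apply a d i e, Nat.add_comm, pB_shift H, B.pe d h1 h2]
  fc := B.fc
  qc := B.qc

theorem scale (k : ℕ) : Base M a e (M.w^[k] c) where
  whole := B.whole
  we := B.we
  qe := B.qe
  pe := B.pe
  fc := by
    induction k with
    | zero => exact B.fc
    | succ k ih => rw [Function.iterate_succ_apply', H.w_comm, ih]
  qc := by
    induction k with
    | zero => exact B.qc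
    | succ k ih => rw [Function.iterate_succ_apply', M.q_w, ih]

end Base

omit H in
theorem swap_eleven (H : Eleven M a) : Eleven M.swap a where
  w_comm v := by
    show a (M.w (M.w v)) = M.w (M.w (a v))
    rw [H.w_comm, H.w_comm]
  q_inv := H.q_inv
  pow := H.pow
  ne := H.ne

theorem exists_base : ∃ e c, Base M a e c ∨ Base M.swap a e c := by
  obtain ⟨e, he0, he⟩ := H.exists_moved
  obtain ⟨c, hc0, hc⟩ := H.exists_fixed
  -- the fixed vectors and the orbit of `e` exhaust the space
  have hdec : ∀ v : V, ∃ u m, a u = u ∧ m < 1024 ∧ v = u + orb a e m ∧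
      (u = 0 ∨ u = c ∨ u = M.w c ∨ u = M.w c + c) := by
    let f : Bool × Bool × Fin 1024 → V := fun p =>
      (bif p.1 then M.w c else 0) + (bif p.2.1 then c else 0) + orb a e p.2.2
    have hne := M.w_ne hc0
    have hfx : ∀ b1 b2 : Bool, a ((bif b1 then M.w c else 0) + (bif b2 then c else 0)) =
        (bif b1 then M.w c else 0) + (bif b2 then c else 0) := fun b1 b2 => by
      cases b1 <;> cases b2 <;> simp [map_add, H.w_comm, hc]
    have hinj : Function.Injective f := by
      rintro ⟨b1, b2, m⟩ ⟨d1, d2, l⟩ h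
      simp only [f] at h
      set u := (bif b1 then M.w c else 0) + (bif b2 then c else 0) with hu
      set u' := (bif d1 then M.w c else 0) + (bif d2 then c else 0) with hu'
      have h' : u + u' = orb a e ((m : ℕ) ^^^ l) := by
        rw [H.orb_xor]
        refine (add_eq_zero_iff_eq M.two).1 ?_
        rw [show u + u' + (orb a e m + orb a e l) = (u + orb a e m) + (u' + orb a e l) by abel, h, M.two]
      have hf : a (u + u') = u + u' := by rw [map_add, hfx, hfx]
      have h0 : u + u' = 0 := by rw [← H.whole_fixed hf, h', H.whole_orb e _ he]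
      rw [h0] at h'
      have hm := H.indep e he he0 (Nat.xor_lt_two_pow (n := 10) m.2 l.2) h'.symm
      obtain rfl : m = l := Fin.ext (by
        rw [← Nat.xor_zero (m : ℕ), ← Nat.xor_self (l : ℕ), ← Nat.xor_assoc, hm, Nat.zero_xor])
      have huu := (add_eq_zero_iff_eq M.two).1 h0
      rw [hu, hu'] at huu
      have k1 : ¬ M.w c + c = 0 := fun h => hne.2 ((add_eq_zero_iff_eq M.two).1 h)
      have k2 : ¬ M.w c + c = c := fun h => hne.1 (add_right_cancel (b := c) (by rw [h, zero_add]))
      have k3 : ¬ M.w c + c = M.w c := fun h => hc0 (add_left_cancel (a := M.w c) (by rw [h, add_zero]))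
      cases b1 <;> cases b2 <;> cases d1 <;> cases d2 <;>
        simp [hc0, Ne.symm hc0, hne.1, Ne.symm hne.1, hne.2, Ne.symm hne.2, k1, Ne.symm k1, k2, Ne.symm k2, k3,
          Ne.symm k3] at huu ⊢
    have : Finite V := Nat.finite_of_card_ne_zero (by rw [M.card]; norm_num)
    intro v
    obtain ⟨⟨b1, b2, m⟩, hm⟩ := ((Nat.bijective_iff_injective_and_card f).2 ⟨hinj, by
      simp only [M.card, Nat.card_eq_fintype_card, Fintype.card_prod, Fintype.card_bool, Fintype.card_fin]⟩).2 v
    refine ⟨_, m, hfx b1 b2, m.2, hm.symm, ?_⟩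
    cases b1 <;> cases b2 <;> simp
  have hW : ∀ v, orb a v 2047 = 0 → ∃ m, m < 1024 ∧ v = orb a e m := fun v hv => by
    obtain ⟨u, m, hu, hm, rfl, -⟩ := hdec v
    have hadd : ∀ u v : V, orb a (u + v) 2047 = orb a u 2047 + orb a v 2047 := fun u v => by
      simp only [orb]
      induction (11 : ℕ) with
      | zero => exact (add_zero 0).symm
      | succ k ih =>
        simp only [comb]
        cases (2047 : ℕ).testBit k
        · exact ih
        · simp only [cond_true]
          rw [ih]
          simp only [iter_add]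
          abel
    rw [hadd, H.whole_fixed hu, H.whole_orb e m he, add_zero] at hv
    exact ⟨m, hm, by rw [hv, zero_add]⟩
  -- the scalar
  obtain ⟨r, hr, hwe⟩ := hW (M.w e) (by rw [← map_orb a M.w (fun v => (H.w_comm v).symm) e 2047, he, map_zero])
  have hr2 : eqv (mulV r r) (Nat.xor r 1) = true := by
    have h2 : orb a e (mulV r r ^^^ (r ^^^ 1)) = 0 := by
      rw [H.orb_xor, H.orb_xor, H.orb_mul e r (by omega), ← hwe,
        ← map_orb a M.w (fun v => (H.w_comm v).symm) e r, ← hwe, orb_one, ← add_assoc]
      exact M.w_rel e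
    obtain ⟨m, hm, hm', hcan⟩ := H.reduce e he (mulV r r ^^^ (r ^^^ 1))
    have h0 := hcan (H.indep e he he0 hm (hm'.trans h2))
    have hl1 : mulV r r < 2048 := mulV_lt r (by omega)
    have hl2 : r ^^^ 1 < 2048 := Nat.xor_lt_two_pow (n := 11) (by omega) (by norm_num)
    have hl : mulV r r ^^^ (r ^^^ 1) < 2048 := Nat.xor_lt_two_pow (n := 11) hl1 hl2
    rw [Nat.mod_eq_of_lt hl] at h0
    have ht := List.all_eq_true.1 zero_table _ (List.mem_range.2 (lt_trans hl (by norm_num : 2048 < 8192)))
    simp only [Bool.and_eq_true, Bool.or_eq_true, Bool.not_eq_true', h0] at ht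
    rcases ht.1 with (h' | h') | h'
    · exact absurd h' (by decide)
    · have : mulV r r = r ^^^ 1 := by
        rw [← Nat.xor_zero (mulV r r), ← Nat.xor_self (r ^^^ 1), ← Nat.xor_assoc, Nat.eq_of_beq_eq_true h',
          Nat.zero_xor]
      rw [this]
      exact Nat.beq_refl _
    · have : mulV r r = (r ^^^ 1) ^^^ 2047 := by
        rw [← Nat.eq_of_beq_eq_true h', Nat.xor_comm (mulV r r), ← Nat.xor_assoc, Nat.xor_self, Nat.zero_xor]
      rw [this]
      have := List.all_eq_true.1 zero_table _ (List.mem_range.2 (lt_trans hl2 (by norm_num : 2048 < 8192)))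
      simp only [Bool.and_eq_true] at this
      exact this.2
  -- the quadratic form
  obtain ⟨m, hm, hb0, hb1, hb2, hb3, hb4, hb5⟩ := six_bits (M.q e) (pB M.q e (a^[1] e)) (pB M.q e (a^[2] e))
    (pB M.q e (a^[3] e)) (pB M.q e (a^[4] e)) (pB M.q e (a^[5] e))
  have hbit : ∀ d, 1 ≤ d → d < 11 → pB M.q e (a^[d] e) = m.testBit (min d (11 - d)) := fun d h1 h2 => by
    have hflip : ∀ d, d ≤ 11 → pB M.q e (a^[d] e) = pB M.q e (a^[11 - d] e) := fun d hd => by
      rw [← pB_shift H e (i := 11 - d) (j := d), show 11 - d + d = 11 by omega, H.pow, pB_comm M.q M.bil]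
    interval_cases d <;> first
      | (simp only [Nat.reduceSub, Nat.reduceLeDiff, min_def, if_true, if_false, hb1, hb2, hb3, hb4, hb5]; done)
      | (rw [hflip _ (by norm_num)]
         simp only [Nat.reduceSub, Nat.reduceLeDiff, min_def, if_true, if_false, hb1, hb2, hb3, hb4, hb5])
  have hq : ∀ n, M.q (orb a e n) = qDat m n := fun n => by
    rw [orb, q_comb M.q M.bil, qDat]
    refine qevK_congr 11 n (fun i _ => ?_) fun i j hj hi => ?_
    · rw [(iter_iso H.w_comm H.q_inv i).2, hb0]
    · rw [show a^[i] e = a^[j + (i - j)] e by rw [show j + (i - j) = i by omega], pB_shift H,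
        hbit _ (by omega) (by omega)]
      congr 2 <;> omega
  have hm0 : m ≠ 0 := by
    intro hm0
    obtain ⟨v, hv⟩ := M.nondeg e he0
    obtain ⟨u, l, hu, -, rfl, -⟩ := hdec v
    rw [pB_comm M.q M.bil, M.bil, pB_comm M.q M.bil u, pB_fixed H hu he, Bool.false_xor, orb,
      pB_comb M.q M.bil, parK_congr 11 l (g := fun _ => false) fun i hi => ?_] at hv
    · revert hv
      induction (11 : ℕ) with
      | zero => simp [parK]
      | succ k ih => simp only [parK]; cases l.testBit k <;> simpa using ih
    · rcases Nat.eq_zero_or_pos i with rfl | hpos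
      · show pB M.q e e = false
        rw [pB, M.two, q_zero' M, hb0.symm, hm0]
        decide
      · rw [pB_comm M.q M.bil, hbit i hpos hi, hm0, Nat.zero_testBit]
  have hnorm := List.all_eq_true.1 norm_table m (List.mem_range.2 hm)
  have h47 : qDat m 2047 = false := by rw [← hq, he, q_zero']
  have hb : Nat.beq m 0 = false := Bool.eq_false_iff.2 fun h => hm0 (Nat.eq_of_beq_eq_true h)
  simp only [hb, h47, Bool.false_or, Bool.and_eq_true, List.all_eq_true, List.mem_range, Nat.blt_eq] at hnorm
  obtain ⟨⟨⟨hc1, -⟩, hq1⟩, hp1⟩ := hnorm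
  set n := normTab.getD m 0 with hn
  set e' := orb a e n with he'
  have hwh : orb a e' 2047 = 0 := H.whole_orb e n he
  have hqe : M.q e' = true := by rw [he', hq, hq1]
  have hpe : ∀ d, 1 ≤ d → d < 11 → pB M.q e' (a^[d] e') = true := by
    have h5 : ∀ d, 1 ≤ d → d ≤ 5 → pB M.q e' (a^[d] e') = true := fun d h1 h2 => by
      have := hp1 (d - 1) (by omega)
      rw [show d - 1 + 1 = d by omega] at this
      have hd : a^[d] e' = orb a e' (bitV d) := by
        rw [orb, comb_bit, if_pos (by omega)]
      rw [hd, he', ← H.orb_mul e (bitV d) (show n < 2048 by omega), pB, ← H.orb_xor, hq, hq, hq]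
      exact this
    intro d h1 h2
    rcases Nat.lt_or_ge d 6 with h | h
    · exact h5 d h1 (by omega)
    · rw [← pB_shift H e' (i := 11 - d) (j := d), show 11 - d + d = 11 by omega, H.pow, pB_comm M.q M.bil]
      exact h5 _ (by omega) (by omega)
  have hq_c : M.q c = true := by
    obtain ⟨v, hv⟩ := M.nondeg c hc0
    obtain ⟨u, l, hu, -, rfl, hu4⟩ := hdec v
    rw [pB_comm M.q M.bil, M.bil, pB_fixed H hc (H.whole_orb e l he), Bool.xor_false,
      pB_comm M.q M.bil] at hv
    by_contra hqc
    rw [Bool.not_eq_true] at hqc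
    have hw : M.q (M.w c + c) = false := by
      rw [show M.w c + c = M.w (M.w c) from ((add_eq_zero_iff_eq M.two).1 (by
        rw [← add_assoc]; exact M.w_rel c)).symm, M.q_w, M.q_w, hqc]
    rcases hu4 with rfl | rfl | rfl | rfl
    · rw [pB, add_zero, q_zero', hqc] at hv; exact Bool.false_ne_true hv
    · rw [pB, M.two, q_zero', hqc] at hv; exact Bool.false_ne_true hv
    · rw [pB, add_comm, hw, hqc, M.q_w, hqc] at hv; exact Bool.false_ne_true hv
    · rw [pB, hw, hqc, show c + (M.w c + c) = M.w c by rw [add_comm, add_assoc, M.two, add_zero], M.q_w,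
        hqc] at hv
      exact Bool.false_ne_true hv
  have htab := List.all_eq_true.1 root_table r (List.mem_range.2 hr)
  simp only [hr2, Bool.not_true, Bool.false_or, Bool.or_eq_true] at htab
  have hwe' : M.w e' = orb a e' r := by
    rw [he', map_orb a M.w (fun v => (H.w_comm v).symm), hwe, orb_comm H]
  refine ⟨e', c, ?_⟩
  rcases htab with h570 | h571
  · exact Or.inl ⟨hwh, by rw [hwe', Nat.eq_of_beq_eq_true h570], hqe, hpe, hc, hq_c⟩
  · refine Or.inr ⟨hwh, ?_, hqe, hpe, hc, hq_c⟩
    show M.w (M.w e') = _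
    rw [(add_eq_zero_iff_eq M.two).1 (show M.w (M.w e') + (M.w e' + e') = 0 by rw [← add_assoc]; exact M.w_rel e'),
      hwe', Nat.eq_of_beq_eq_true h571, show (571 : ℕ) = 570 ^^^ 1 by decide, H.orb_xor, orb_one, add_assoc, M.two,
      add_zero]

end CfsgLib.J4Type.Ident
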