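import Cfsg.Agent.Lib.J4Type.Ident.Comb

/-!
# An element of order eleven on a twelve-dimensional quadratic space with a scalar of order three
-/

set_option autoImplicit false
set_option linter.unusedSectionVars false
set_option maxRecDepth 100000

namespace CfsgLib.J4Type.Ident

/-- A twelve-dimensional quadratic space over two elements with a scalar of order three. -/
structure Space (V : Type*) [AddCommGroup V] where
  card : Nat.card V = 4096
  two : ∀ v : V, v + v = 0
  w : V →+ V
  w_rel : ∀ v, w (w v) + w v + v = 0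
  q : V → Bool
  bil : ∀ u v x, pB q (u + v) x = xor (pB q u x) (pB q v x)
  nondeg : ∀ v, v ≠ 0 → ∃ u, pB q v u = true
  q_w : ∀ v, q (w v) = q v

variable {V : Type*} [AddCommGroup V] (M : Space V)

theorem Space.w3 (v : V) : M.w (M.w (M.w v)) = v := by
  have h1 := M.w_rel (M.w v)
  have h2 := M.w_rel v
  rw [add_eq_zero_iff_eq M.two] at h2
  rw [add_assoc, add_eq_zero_iff_eq M.two] at h1
  exact h1.trans h2

/-- The same space with the other scalar. -/
def Space.swap : Space V where
  card := M.card
  two := M.two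
  w := M.w.comp M.w
  w_rel v := by
    show M.w (M.w (M.w (M.w v))) + M.w (M.w v) + v = 0
    rw [M.w3, add_comm (M.w v), M.w_rel]
  q := M.q
  bil := M.bil
  nondeg := M.nondeg
  q_w v := by
    show M.q (M.w (M.w v)) = _
    rw [M.q_w, M.q_w]

/-- An element of order eleven. -/
structure Eleven (a : V →+ V) : Prop where
  w_comm : ∀ v, a (M.w v) = M.w (a v)
  q_inv : ∀ v, M.q (a v) = M.q v
  pow : ∀ v, a^[11] v = v
  ne : ∃ v, a v ≠ v

/-- the combination of the orbit of a vector -/
def orb (a : V →+ V) (e : V) (n : ℕ) : V := comb (fun i => a^[i] e) 11 n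

/-- the rotation of eleven bits -/
def rot (i d : ℕ) : ℕ := Nat.xor (Nat.land (Nat.shiftLeft d i) 2047) (Nat.shiftRight d (11 - i))

theorem rot_table : (List.range 11).all (fun i => (List.range 2048).all fun d =>
    Nat.beq (rot i d) (appK (fun j => bitV ((i + j) % 11)) 11 d)) = true := by
  decide +kernel

theorem even_table : (List.range 8192).all (fun n => Nat.beq (can (can n)) (can n) && Nat.blt (can n) 8192 &&
    (Nat.beq (n % 2048) (can n % 2048) || Nat.beq (n % 2048) (Nat.xor (can n % 2048) 2047))) = true := by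
  decide +kernel

theorem small_table : (List.range 2048).all (fun n =>
    let m := bif n.testBit 10 then Nat.xor n 2047 else n
    Nat.blt m 1024 && (Nat.beq m n || Nat.beq m (Nat.xor n 2047)) &&
      (!Nat.beq m 0 || Nat.beq (can n) 0)) = true := by
  decide +kernel

theorem omega_mask : eqv (mulV 570 570) (Nat.xor 570 1) = true := by decide +kernel

variable {M} {a : V →+ V}

theorem iter_add (i : ℕ) (u v : V) : a^[i] (u + v) = a^[i] u + a^[i] v := by
  induction i with
  | zero => rfl
  | succ i ih => simp only [Function.iterate_succ_apply', ih, map_add]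

theorem iter_zero (i : ℕ) : a^[i] (0 : V) = 0 := by
  induction i with
  | zero => rfl
  | succ i ih => simp only [Function.iterate_succ_apply', ih, map_zero]

/-- the iterate as a homomorphism -/
def itHom (a : V →+ V) (i : ℕ) : V →+ V where
  toFun := a^[i]
  map_zero' := iter_zero i
  map_add' := iter_add i

theorem map_orb (a : V →+ V) (f : V →+ V) (h : ∀ v, f (a v) = a (f v)) (e : V) (n : ℕ) :
    f (orb a e n) = orb a (f e) n := by
  rw [orb, orb, map_comb]
  refine comb_congr 11 n fun i hi => ?_
  clear hi
  induction i with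
  | zero => rfl
  | succ i ih => simp only [Function.iterate_succ_apply', h, ih]

theorem orb_one (a : V →+ V) (e : V) : orb a e 1 = e := by
  rw [orb, show (1 : ℕ) = bitV 0 from rfl, comb_bit]
  rfl

theorem orb_zero_left (a : V →+ V) (n : ℕ) : orb a (0 : V) n = 0 := by
  rw [orb, comb_congr 11 n (y := fun _ => (0 : V)) fun i _ => iter_zero i]
  induction (11 : ℕ) with
  | zero => rfl
  | succ k ih => simp only [comb, ih, add_zero]; cases n.testBit k <;> rfl

namespace Eleven

variable (H : Eleven M a)
include H

theorem orb_xor (e : V) (n m : ℕ) : orb a e (n ^^^ m) = orb a e n + orb a e m := comb_xor M.two _ 11 n m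

theorem iter_mod (i : ℕ) (v : V) : a^[i % 11] v = a^[i] v := by
  conv_rhs => rw [← Nat.mod_add_div i 11, Function.iterate_add_apply, Function.iterate_mul]
  congr 1
  induction i / 11 with
  | zero => rfl
  | succ k ih => rw [Function.iterate_succ_apply, H.pow, ← ih]

theorem orb_rot (e : V) {i : ℕ} (hi : i < 11) (d : ℕ) : orb a e (rot i (d % 2048)) = a^[i] (orb a e d) := by
  have h := Nat.eq_of_beq_eq_true (List.all_eq_true.1 (List.all_eq_true.1 rot_table i (List.mem_range.2 hi))
    (d % 2048) (List.mem_range.2 (Nat.mod_lt _ (by norm_num))))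
  rw [h, orb, comb_appK M.two, show a^[i] (orb a e d) = itHom a i (orb a e d) from rfl, orb, map_comb,
    show (2048 : ℕ) = 2 ^ 11 from rfl, comb_mod]
  refine comb_congr 11 d fun j _ => ?_
  rw [comb_bit, if_pos (Nat.mod_lt _ (by norm_num)), H.iter_mod]
  exact Function.iterate_add_apply a i j e

theorem orb_mul (e : V) (n : ℕ) {d : ℕ} (hd : d < 2048) : orb a e (mulV n d) = orb a (orb a e d) n := by
  rw [mulV, orb, comb_appK M.two]
  show _ = comb (fun i => a^[i] (orb a e d)) 11 n
  refine comb_congr 11 n fun i hi => ?_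
  have := H.orb_rot e hi d
  rwa [Nat.mod_eq_of_lt hd] at this

/-- the projection onto the fixed vectors -/
theorem fix_whole (v : V) : a (orb a v 2047) = orb a v 2047 := by
  have h := H.orb_rot v (show 1 < 11 by norm_num) 2047
  rw [show rot 1 (2047 % 2048) = 2047 by decide +kernel] at h
  exact h.symm

theorem whole_fixed {c : V} (hc : a c = c) : orb a c 2047 = c := by
  have e : ∀ i, a^[i] c = c := fun i => Function.iterate_fixed hc i
  rw [orb, comb_congr 11 _ (y := fun _ => c) fun i _ => e i]
  have h11 : ∀ i : ℕ, i < 11 → (2047 : ℕ).testBit i = true := by decide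
  simp only [comb, h11 10 (by norm_num), h11 9 (by norm_num), h11 8 (by norm_num), h11 7 (by norm_num),
    h11 6 (by norm_num), h11 5 (by norm_num), h11 4 (by norm_num), h11 3 (by norm_num), h11 2 (by norm_num),
    h11 1 (by norm_num), h11 0 (by norm_num), cond_true, add_zero]
  simp only [M.two, add_zero]

theorem whole_orb (e : V) (n : ℕ) (he : orb a e 2047 = 0) : orb a (orb a e n) 2047 = 0 := by
  have h : ∀ v, orb a (a v) 2047 = a (orb a v 2047) := fun v => (map_orb a a (fun _ => rfl) v 2047).symm
  have hf : (∀ i, orb a (a^[i] e) 2047 = 0) := fun i => by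
    induction i with
    | zero => exact he
    | succ i ih => rw [Function.iterate_succ_apply', h, ih, map_zero]
  have hadd : ∀ u v : V, orb a (u + v) 2047 = orb a u 2047 + orb a v 2047 := fun u v => by
    simp only [orb]
    induction (11 : ℕ) with
    | zero => exact (add_zero 0).symm
    | succ k ih =>
      simp only [comb]
      cases (2047 : ℕ).testBit k
      · exact ih
      · simp only [cond_true]
        rw [ih]
        simp only [iter_add]
        abel
  let f : V →+ V := { toFun := fun v => orb a v 2047, map_zero' := orb_zero_left a _, map_add' := hadd }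
  show f (orb a e n) = 0
  rw [orb, map_comb]
  refine (comb_congr 11 n (y := fun _ => (0 : V)) fun i _ => hf i).trans ?_
  induction (11 : ℕ) with
  | zero => rfl
  | succ k ih => simp only [comb, ih, add_zero]; cases n.testBit k <;> rfl

theorem orb_can (e : V) (he : orb a e 2047 = 0) {n : ℕ} (hn : n < 8192) : orb a e (can n) = orb a e n := by
  have h := List.all_eq_true.1 even_table n (List.mem_range.2 hn)
  simp only [Bool.and_eq_true, Bool.or_eq_true] at h
  have e1 : ∀ k, orb a e (k % 2048) = orb a e k := fun k => comb_mod _ 11 k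
  rw [← e1 (can n), ← e1 n]
  rcases h.2 with h' | h'
  · rw [Nat.eq_of_beq_eq_true h']
  · rw [Nat.eq_of_beq_eq_true h', show ∀ p r : ℕ, Nat.xor p r = p ^^^ r from fun _ _ => rfl, H.orb_xor, he, add_zero]

theorem reduce (e : V) (he : orb a e 2047 = 0) (n : ℕ) :
    ∃ m, m < 1024 ∧ orb a e m = orb a e n ∧ (m = 0 → can (n % 2048) = 0) := by
  have h := List.all_eq_true.1 small_table (n % 2048) (List.mem_range.2 (Nat.mod_lt _ (by norm_num)))
  simp only [Bool.and_eq_true, Bool.or_eq_true, Bool.not_eq_true', Nat.blt_eq] at h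
  refine ⟨_, h.1.1, ?_, fun h0 => ?_⟩
  · show _ = comb (fun i => a^[i] e) 11 n
    rw [← comb_mod (fun i => a^[i] e) 11 n]
    rcases h.1.2 with h' | h'
    · rw [Nat.eq_of_beq_eq_true h']; rfl
    · rw [Nat.eq_of_beq_eq_true h', show ∀ p r : ℕ, Nat.xor p r = p ^^^ r from fun _ _ => rfl, H.orb_xor, he, add_zero]
      rfl
  · rcases h.2 with h' | h'
    · exact absurd h' (by rw [h0]; decide)
    · exact Nat.eq_of_beq_eq_true h'

theorem inverse (e : V) (he : orb a e 2047 = 0) {n : ℕ} (hn : n < 1024) (h0 : n ≠ 0) :
    ∃ d, d < 1024 ∧ orb a (orb a e n) d = e := by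
  have hz : (n, invTab.getD n 0) ∈ (List.range 1024).zip invTab := by
    rw [List.mem_iff_getElem]
    refine ⟨n, by simp [inv_table_len, hn], ?_⟩
    rw [List.getElem_zip, List.getElem_range]
    simp [List.getD_eq_getElem?_getD, List.getElem?_eq_getElem (show n < invTab.length by rw [inv_table_len]; exact hn)]
  have h := List.all_eq_true.1 inv_table _ hz
  simp only [Bool.or_eq_true, Bool.and_eq_true, Nat.blt_eq] at h
  rcases h with h | ⟨h1, h2⟩
  · exact absurd (Nat.eq_of_beq_eq_true h) h0
  · refine ⟨_, h1, ?_⟩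
    have hlt : mulV (invTab.getD n 0) n % 2048 < 8192 := lt_trans (Nat.mod_lt _ (by norm_num)) (by norm_num)
    rw [← H.orb_mul e _ (by omega : n < 2048)]
    have h2' : can (mulV (invTab.getD n 0) n) = can 1 := Nat.eq_of_beq_eq_true h2
    have hcan : ∀ k, can (k % 2048) = can k % 2048 ∧ orb a e (k % 2048) = orb a e k :=
      fun k => ⟨by
        have hp : parK (fun _ => true) 11 (k % 2048) = parK (fun _ => true) 11 k := by
          have : ∀ j, j ≤ 11 → parK (fun _ => true) j (k % 2048) = parK (fun _ => true) j k := fun j hj => by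
            induction j with
            | zero => rfl
            | succ j ih =>
              have hb : (k % 2048).testBit j = k.testBit j := by
                rw [show (2048 : ℕ) = 2 ^ 11 from rfl, Nat.testBit_mod_two_pow]
                simp [show j < 11 from hj]
              simp only [parK, ih (by omega), hb]
          exact this 11 le_rfl
        simp only [can, hp]
        cases parK (fun _ => true) 11 k
        · rfl
        · show (k % 2048) ^^^ 2047 = (k ^^^ 2047) % 2048
          rw [show (2048 : ℕ) = 2 ^ 11 from rfl, Nat.xor_mod_two_pow], comb_mod _ 11 k⟩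
    rw [← (hcan _).2, ← H.orb_can e he hlt, (hcan _).1, h2', (show can 1 % 2048 = can 1 by decide +kernel),
      H.orb_can e he (by norm_num), orb_one]

theorem indep (e : V) (he : orb a e 2047 = 0) (h0 : e ≠ 0) {n : ℕ} (hn : n < 1024) (h : orb a e n = 0) : n = 0 := by
  by_contra hne
  obtain ⟨d, -, hd⟩ := H.inverse e he hn hne
  rw [h, orb_zero_left] at hd
  exact h0 hd.symm

theorem exists_moved : ∃ e : V, e ≠ 0 ∧ orb a e 2047 = 0 := by
  obtain ⟨v, hv⟩ := H.ne
  refine ⟨v + a v, fun h => hv ((add_eq_zero_iff_eq M.two).1 h).symm, ?_⟩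
  have hb : orb a v (rot 1 (1 % 2048)) = a v := by rw [H.orb_rot v (by norm_num) 1, orb_one]; rfl
  rw [show v + a v = orb a v (1 ^^^ rot 1 1) from by
    rw [H.orb_xor, orb_one]; exact congrArg _ hb.symm, ← H.orb_mul v 2047 (by decide +kernel),
    show mulV 2047 (1 ^^^ rot 1 1) = 0 by decide +kernel]
  exact comb_zero _ 11

theorem exists_fixed : ∃ c : V, c ≠ 0 ∧ a c = c := by
  by_contra hno
  push Not at hno
  have hall : ∀ v, orb a v 2047 = 0 := fun v => by
    by_contra h
    exact hno _ h (H.fix_whole v)
  obtain ⟨e, he0, -⟩ := H.exists_moved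
  have : Finite V := Nat.finite_of_card_ne_zero (by rw [M.card]; norm_num)
  obtain ⟨e', he'⟩ : ∃ e' : V, ∀ n, orb a e n ≠ e' := by
    by_contra hc
    push Not at hc
    have hs : Function.Surjective (fun n : Fin 1024 => orb a e n) := fun v => by
      obtain ⟨n, hn⟩ := hc v
      obtain ⟨m, hm, hm', -⟩ := H.reduce e (hall e) n
      exact ⟨⟨m, hm⟩, hm'.trans hn⟩
    have := Nat.card_le_card_of_surjective _ hs
    rw [Nat.card_fin, M.card] at this
    omega
  have hinj : Function.Injective (fun p : Fin 1024 × Fin 1024 => orb a e p.1 + orb a e' p.2) := by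
    rintro ⟨n, m⟩ ⟨n', m'⟩ h
    simp only at h
    have hxor : ∀ x y : Fin 1024, ((x : ℕ) ^^^ (y : ℕ)) < 1024 := fun x y => Nat.xor_lt_two_pow (n := 10) x.2 y.2
    have h' : orb a e ((n : ℕ) ^^^ n') = orb a e' ((m : ℕ) ^^^ m') := by
      rw [H.orb_xor, H.orb_xor]
      refine (add_eq_zero_iff_eq M.two).1 ?_
      rw [add_add_add_comm, h]
      exact M.two _
    have hm : ((m : ℕ) ^^^ m') = 0 := by
      by_contra hne
      obtain ⟨d, hd, hde⟩ := H.inverse e' (hall e') (hxor m m') hne
      rw [← h', ← H.orb_mul e d (by have := hxor n n'; omega)] at hde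
      exact he' _ hde
    rw [hm] at h'
    have hn : ((n : ℕ) ^^^ n') = 0 := H.indep e (hall e) he0 (hxor n n') (h'.trans (comb_zero _ 11))
    have key : ∀ x y : ℕ, x ^^^ y = 0 → x = y := fun x y hxy => by
      rw [← Nat.xor_zero x, ← Nat.xor_self y, ← Nat.xor_assoc, hxy, Nat.zero_xor]
    exact Prod.ext (Fin.ext (key _ _ hn)) (Fin.ext (key _ _ hm))
  have := Nat.card_le_card_of_injective _ hinj
  rw [Nat.card_prod, Nat.card_fin, M.card] at this
  omega

end Eleven

end CfsgLib.J4Type.Ident
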